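import Groth.Agent.H16Derived.TorSelf.Near
import Groth.Agent.H17.FLI.SheafIso

/-!
# The Tor sheaves of a regular immersion are the exterior powers of the conormal sheaf
-/

set_option autoImplicit false
set_option linter.style.haveILetI false
set_option linter.unusedSectionVars false
set_option maxHeartbeats 1000000
set_option synthInstance.maxHeartbeats 400000
set_option backward.isDefEq.respectTransparency false

universe u

open CategoryTheory CategoryTheory.Limits AlgebraicGeometry Opposite TopologicalSpace
open exteriorPower (ιMulti)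
open Groth.Agent.H06Mod (stalkLin stalkLin_germ)
open Groth.Agent.H17.FLI (O' oneGerm idI stalkMap_surj section_ext germ_map exists_hom_of_compat)

namespace Groth.Agent.H16Derived.TorSelf

attribute [local instance] Groth.Agent.H06Mod.stalkAlgebra

/-- Locally given germs glue to a section. -/
theorem exists_section_of_local {Y : Scheme.{u}} (M : Y.Modules) (V : Y.Opens)
    (t : ∀ (y : Y), y ∈ V → M.presheaf.stalk y)
    (h : ∀ (y : Y), y ∈ V → ∃ (W : Y.Opens) (_ : y ∈ W) (hWV : W ≤ V) (s : Γ(M, W)),
      ∀ (y' : Y) (hy' : y' ∈ W), M.presheaf.germ W y' hy' s = t y' (hWV hy')) :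
    ∃ s : Γ(M, V), ∀ (y : Y) (hy : y ∈ V), M.presheaf.germ V y hy s = t y hy := by
  choose W hW hWV s hs using fun y : V => h y.1 y.2
  let F : TopCat.Sheaf Ab.{u} Y := ⟨M.presheaf, M.isSheaf⟩
  obtain ⟨σ, hσ, -⟩ := F.existsUnique_gluing' W V (fun y => homOfLE (hWV y))
    (fun z hz => Opens.mem_iSup.2 ⟨⟨z, hz⟩, hW ⟨z, hz⟩⟩) s fun a b => by
      refine section_ext M _ _ fun y' hy' => ?_
      rw [TopCat.Presheaf.germ_res_apply, TopCat.Presheaf.germ_res_apply, hs, hs]
  refine ⟨σ, fun y hy => ?_⟩
  refine (germ_map M (hWV ⟨y, hy⟩) y (hW ⟨y, hy⟩) σ).symm.trans ?_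
  rw [← hs ⟨y, hy⟩ y (hW ⟨y, hy⟩)]
  exact congrArg _ (hσ ⟨y, hy⟩)

variable {X Y : Scheme.{u}} {i : Y ⟶ X} [IsClosedImmersion i] (P : Reso i) (hi : LocReg i)

/-- The class of a tuple at a point. -/
noncomputable def xiFun (p : ℕ) (y : Y) (n : Fin p → (Omega.conormal i).presheaf.stalk y) :
    (P.T p).presheaf.stalk y :=
  ((nonempty_chart P hi y).some.existsUnique_xi n).choose

theorem xiFun_spec (p : ℕ) (y : Y) (n : Fin p → (Omega.conormal i).presheaf.stalk y) :
    IsXi P y n (xiFun P hi p y n) :=
  ((nonempty_chart P hi y).some.existsUnique_xi n).choose_spec.1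

theorem eq_xiFun {p : ℕ} {y : Y} {n : Fin p → (Omega.conormal i).presheaf.stalk y} {t : (P.T p).presheaf.stalk y}
    (h : IsXi P y n t) : t = xiFun P hi p y n :=
  ((nonempty_chart P hi y).some.existsUnique_xi n).choose_spec.2 t h

variable {P hi}

theorem xiFun_eq {p : ℕ} {y : Y} (C : Chart P y) {n : Fin p → (Omega.conormal i).presheaf.stalk y}
    (v : Fin p → Fin C.c → X.presheaf.stalk (i.base y)) (hv : ∀ j, C.vec (v j) = n j) :
    xiFun P hi p y n = C.cl p (ιMulti _ p v) :=
  (C.isXi_iff v hv _).1 (xiFun_spec P hi p y n)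

theorem Chart.vec_add {y : Y} (C : Chart P y) (v w : Fin C.c → X.presheaf.stalk (i.base y)) :
    C.vec (v + w) = C.vec v + C.vec w := by
  rw [Chart.vec, Chart.vec, Chart.vec, ← map_add]
  exact congrArg _ (Subtype.ext (map_add C.g v w))

theorem Chart.vec_smul {y : Y} (C : Chart P y) (r : X.presheaf.stalk (i.base y))
    (v : Fin C.c → X.presheaf.stalk (i.base y)) : C.vec (r • v) = (i.stalkMap y).hom r • C.vec v := by
  rw [Chart.vec, Chart.vec, ← H29Omega.cgen_smul]
  exact congrArg _ (Subtype.ext (map_smul C.g r v))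

variable (P hi)

/-- The class of a tuple at a point, as an alternating map. -/
noncomputable def xi (p : ℕ) (y : Y) :
    (Omega.conormal i).presheaf.stalk y [⋀^Fin p]→ₗ[Y.presheaf.stalk y] (P.T p).presheaf.stalk y where
  toFun n := xiFun P hi p y n
  map_update_add' := by
    intro _ n j a b
    obtain ⟨C⟩ := nonempty_chart P hi y
    choose v hv using fun k => C.vec_surjective (n k)
    obtain ⟨va, rfl⟩ := C.vec_surjective a
    obtain ⟨vb, rfl⟩ := C.vec_surjective b
    rw [← C.vec_add]
    have key : ∀ u, ∀ k, C.vec (Function.update v j u k) = Function.update n j (C.vec u) k := fun u k => by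
      by_cases hk : k = j
      · subst hk; rw [Function.update_self, Function.update_self]
      · rw [Function.update_of_ne hk, Function.update_of_ne hk, hv]
    rw [xiFun_eq C _ (key (va + vb)), xiFun_eq C _ (key va), xiFun_eq C _ (key vb), AlternatingMap.map_update_add,
      C.cl_add]
  map_update_smul' := by
    intro _ n j r a
    obtain ⟨C⟩ := nonempty_chart P hi y
    choose v hv using fun k => C.vec_surjective (n k)
    obtain ⟨va, rfl⟩ := C.vec_surjective a
    obtain ⟨r, rfl⟩ := stalkMap_surj i y r
    rw [← C.vec_smul]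
    have key : ∀ u, ∀ k, C.vec (Function.update v j u k) = Function.update n j (C.vec u) k := fun u k => by
      by_cases hk : k = j
      · subst hk; rw [Function.update_self, Function.update_self]
      · rw [Function.update_of_ne hk, Function.update_of_ne hk, hv]
    rw [xiFun_eq C _ (key (r • va)), xiFun_eq C _ (key va), AlternatingMap.map_update_smul, C.cl_smul]
  map_eq_zero_of_eq' := by
    intro n a b hab hne
    obtain ⟨C⟩ := nonempty_chart P hi y
    let v := fun k => (C.vec_surjective (n k)).choose
    rw [xiFun_eq C v fun k => (C.vec_surjective (n k)).choose_spec,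
      AlternatingMap.map_eq_zero_of_eq _ v (by simp only [v]; rw [hab]) hne]
    rw [show (0 : ↥(⋀[X.presheaf.stalk (i.base y)]^p (Fin C.c → X.presheaf.stalk (i.base y)))) = (0 : X.presheaf.stalk (i.base y)) • 0 from (zero_smul _ _).symm,
      C.cl_smul, map_zero, zero_smul]

variable {P hi}

theorem exists_secXi {p : ℕ} {V : Y.Opens} (ν : Fin p → Γ(Omega.conormal i, V)) :
    ∃ s : Γ(P.T p, V), ∀ (y : Y) (hy : y ∈ V),
      (P.T p).presheaf.germ V y hy s = xi P hi p y fun j => (Omega.conormal i).presheaf.germ V y hy (ν j) :=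
  exists_section_of_local _ V _ fun y hy => by
    obtain ⟨W, hW, hWV, σ, hσ⟩ := exists_xi_sect P hi ν y hy
    exact ⟨W, hW, hWV, σ, fun y' hy' => eq_xiFun P hi (hσ y' hy')⟩

variable (P hi)

/-- The class of a tuple of sections. -/
noncomputable def xiSec (p : ℕ) (V : Y.Opens) :
    Γ(Omega.conormal i, V) [⋀^Fin p]→ₗ[Γ(Y, V)] Γ(P.T p, V) where
  toFun ν := (exists_secXi (P := P) (hi := hi) ν).choose
  map_update_add' := by
    intro _ ν j a b
    refine section_ext _ _ _ fun y hy => ?_
    rw [map_add, (exists_secXi _).choose_spec, (exists_secXi _).choose_spec, (exists_secXi _).choose_spec]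
    simp only [← Function.apply_update (fun _ => (Omega.conormal i).presheaf.germ V y hy), map_add]
    have e : ∀ u, (fun k => (Omega.conormal i).presheaf.germ V y hy (Function.update ν j u k)) =
        Function.update (fun k => (Omega.conormal i).presheaf.germ V y hy (ν k)) j
          ((Omega.conormal i).presheaf.germ V y hy u) := fun u => funext fun k =>
      Function.apply_update (fun _ => (Omega.conormal i).presheaf.germ V y hy) ν j u k
    simp only [e, map_add]
    exact (xi P hi p y).map_update_add _ j _ _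
  map_update_smul' := by
    intro _ ν j r a
    refine section_ext _ _ _ fun y hy => ?_
    rw [Mero.germ_smul, (exists_secXi _).choose_spec, (exists_secXi _).choose_spec]
    have e : ∀ u, (fun k => (Omega.conormal i).presheaf.germ V y hy (Function.update ν j u k)) =
        Function.update (fun k => (Omega.conormal i).presheaf.germ V y hy (ν k)) j
          ((Omega.conormal i).presheaf.germ V y hy u) := fun u => funext fun k =>
      Function.apply_update (fun _ => (Omega.conormal i).presheaf.germ V y hy) ν j u k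
    simp only [e]
    rw [Mero.germ_smul]
    exact (xi P hi p y).map_update_smul _ j _ _
  map_eq_zero_of_eq' := by
    intro ν a b hab hne
    refine section_ext _ _ _ fun y hy => ?_
    rw [map_zero, (exists_secXi _).choose_spec]
    exact (xi P hi p y).map_eq_zero_of_eq _ (congrArg _ hab) hne

variable {P hi}

theorem germ_xiSec {p : ℕ} {V : Y.Opens} (ν : Fin p → Γ(Omega.conormal i, V)) (y : Y) (hy : y ∈ V) :
    (P.T p).presheaf.germ V y hy (xiSec P hi p V ν) =
      xi P hi p y fun j => (Omega.conormal i).presheaf.germ V y hy (ν j) :=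
  (exists_secXi ν).choose_spec y hy

include hi in
/-- **`T_p ≅ ⋀^p N`.** -/
theorem nonempty_iso {p : ℕ} {L : Y.Modules} (hL : ExtPow.IsExtPow p (Omega.conormal i) L) :
    Nonempty (L ≅ P.T p) := by
  obtain ⟨φ₀, hφ₀⟩ := hL
  let φ : ∀ U : Y.affineOpens, Γ(L, U.1) ≃ₗ[Γ(Y, U.1)] ↥(⋀[Γ(Y, U.1)]^p Γ(Omega.conormal i, U.1)) := fun U => φ₀ U
  have hφ : ∀ (U V : Y.affineOpens) (h : V.1 ≤ U.1) (e : Fin p → Γ(Omega.conormal i, U.1)),
      L.presheaf.map (homOfLE h).op ((φ U).symm (ιMulti _ p e)) =
        (φ V).symm (ιMulti _ p fun j => (Omega.conormal i).presheaf.map (homOfLE h).op (e j)) := hφ₀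
  obtain ⟨θ, hθ⟩ := exists_hom_of_compat φ hφ (fun U => exteriorPower.alternatingMapLinearEquiv (xiSec P hi p U.1))
    fun U V h e => by
      simp only [exteriorPower.alternatingMapLinearEquiv_apply_ιMulti]
      refine section_ext _ _ _ fun y hy => ?_
      rw [germ_map, germ_xiSec, germ_xiSec]
      exact congrArg _ (funext fun j => germ_map (Omega.conormal i) h y hy (e j))
  have hval : ∀ (U : Y.affineOpens) (e : Fin p → Γ(Omega.conormal i, U.1)) (y : Y) (hy : y ∈ U.1),
      stalkLin θ y (L.presheaf.germ U.1 y hy ((φ U).symm (ιMulti _ p e))) =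
        xi P hi p y fun j => (Omega.conormal i).presheaf.germ U.1 y hy (e j) := by
    intro U e y hy
    rw [stalkLin_germ, hθ, LinearEquiv.apply_symm_apply, exteriorPower.alternatingMapLinearEquiv_apply_ιMulti,
      germ_xiSec]
  haveI : IsIso θ := by
    refine Groth.Agent.H16Derived.KFlat.Stalk.isIso_of_stalk _ fun y => (ConcreteCategory.isIso_iff_bijective _).2 ?_
    show Function.Bijective (stalkLin θ y)
    obtain ⟨C⟩ := nonempty_chart P hi y
    let A := X.presheaf.stalk (i.base y)
    let b := Pi.basisFun A (Fin C.c)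
    choose Ug hUg gs hgs using fun k => (Omega.conormal i).presheaf.exists_germ_eq (C.vec (b k))
    obtain ⟨W, hW, hyW, hWg⟩ := exists_isAffineOpen_mem_and_subset (X := Y) (x := y)
      (U := ⟨⋂ k, (Ug k : Set Y), isOpen_iInter_of_finite fun k => (Ug k).isOpen⟩) (Set.mem_iInter.2 hUg)
    have hWk : ∀ k, W ≤ Ug k := fun k z hz => Set.mem_iInter.1 (hWg hz) k
    let g : Fin C.c → Γ(Omega.conormal i, W) := fun k => (Omega.conormal i).presheaf.map (homOfLE (hWk k)).op (gs k)
    have hg : ∀ k, (Omega.conormal i).presheaf.germ W y hyW (g k) = C.vec (b k) := fun k => by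
      simp only [g]
      rw [germ_map]
      exact hgs k
    let lam : Set.powersetCard (Fin C.c) p → L.presheaf.stalk y := fun s =>
      L.presheaf.germ W y hyW ((φ ⟨W, hW⟩).symm (exteriorPower.ιMulti_family Γ(Y, W) p g s))
    have hlam : ∀ s, stalkLin θ y (lam s) = C.cl p (b.exteriorPower p s) := fun s => by
      rw [exteriorPower.basis_apply]
      simp only [lam, exteriorPower.ιMulti_family]
      rw [hval ⟨W, hW⟩]
      exact xiFun_eq (hi := hi) C _ fun j => (hg _).symm
    have hcl : ∀ b' : Set.powersetCard (Fin C.c) p → A, C.cl p (∑ s, b' s • b.exteriorPower p s) =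
        stalkLin θ y (∑ s, (i.stalkMap y).hom (b' s) • lam s) := fun b' => by
      let clh : ↥(⋀[A]^p (Fin C.c → A)) →+ (P.T p).presheaf.stalk y := AddMonoidHom.mk' (C.cl p) (C.cl_add p)
      rw [show C.cl p (∑ s, b' s • b.exteriorPower p s) = ∑ s, C.cl p (b' s • b.exteriorPower p s) from
        map_sum clh _ _, map_sum]
      refine Finset.sum_congr rfl fun s _ => ?_
      rw [map_smul, hlam, C.cl_smul]
    have hspan : ∀ l : L.presheaf.stalk y, l ∈ Submodule.span (Y.presheaf.stalk y) (Set.range lam) := by
      intro l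
      obtain ⟨W1, hy1, l, rfl⟩ := L.presheaf.exists_germ_eq l
      obtain ⟨W2, hW2, hy2, hle2⟩ := exists_isAffineOpen_mem_and_subset (X := Y) (x := y) (U := W1 ⊓ W) ⟨hy1, hyW⟩
      rw [← germ_map L (fun z hz => (hle2 hz).1 : W2 ≤ W1) y hy2 l]
      obtain ⟨w, hw⟩ := (φ ⟨W2, hW2⟩).symm.surjective (L.presheaf.map (homOfLE (fun z hz => (hle2 hz).1 : W2 ≤ W1)).op l)
      rw [← hw]
      clear hw
      induction w using H22Alg.ExtPowAlg.induction with
      | hgen e =>
        -- the entries are combinations of the chosen sections near `y`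
        have hcomb : ∀ j, ∃ a : Fin C.c → Y.presheaf.stalk y,
            (Omega.conormal i).presheaf.germ W2 y hy2 (e j) =
              ∑ k, a k • (Omega.conormal i).presheaf.germ W y hyW (g k) := fun j => by
          obtain ⟨v, hv⟩ := C.vec_surjective ((Omega.conormal i).presheaf.germ W2 y hy2 (e j))
          refine ⟨fun k => (i.stalkMap y).hom (v k), ?_⟩
          let vh : (Fin C.c → A) →+ (Omega.conormal i).presheaf.stalk y := AddMonoidHom.mk' C.vec C.vec_add
          have hv' : v = ∑ k, v k • b k := by
            funext k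
            simp [b, Pi.basisFun_apply, Finset.sum_apply, Pi.single_apply]
          rw [← hv]
          show vh v = _
          conv_lhs => rw [hv', map_sum]
          refine Finset.sum_congr rfl fun k _ => ?_
          show C.vec (v k • b k) = _
          rw [C.vec_smul, hg]
        choose a ha using hcomb
        choose Wa hWa as has using fun j k => Y.presheaf.exists_germ_eq (a j k)
        obtain ⟨W3, hy3, hW32, hW3a⟩ : ∃ W3 : Y.Opens, y ∈ W3 ∧ W3 ≤ W2 ∧ ∀ j k, W3 ≤ Wa j k :=
          ⟨W2 ⊓ ⟨⋂ j, ⋂ k, (Wa j k : Set Y), isOpen_iInter_of_finite fun j => isOpen_iInter_of_finite fun k => (Wa j k).isOpen⟩,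
            ⟨hy2, Set.mem_iInter.2 fun j => Set.mem_iInter.2 (hWa j)⟩, inf_le_left,
            fun j k z hz => Set.mem_iInter.1 (Set.mem_iInter.1 hz.2 j) k⟩
        have h3W : W3 ≤ W := fun z hz => (hle2 (hW32 hz)).2
        let as3 : Fin p → Fin C.c → Γ(Y, W3) := fun j k => Y.presheaf.map (homOfLE (hW3a j k)).op (as j k)
        let e3 : Fin p → Γ(Omega.conormal i, W3) := fun j =>
          (Omega.conormal i).presheaf.map (homOfLE hW32).op (e j) -
            ∑ k, as3 j k • (Omega.conormal i).presheaf.map (homOfLE h3W).op (g k)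
        obtain ⟨W4, hy4, hW43, h4⟩ := H17.FLI.exists_nhds_germ_zero (Omega.conormal i) hy3
          (α := ULift.{u} (Fin p)) (fun j => e3 j.down) fun j => by
            simp only [e3]
            rw [map_sub, germ_map, ha, map_sum, sub_eq_zero]
            refine Finset.sum_congr rfl fun k _ => ?_
            rw [Mero.germ_smul]
            simp only [as3, g, germ_map, TopCat.Presheaf.germ_res_apply, has]
        obtain ⟨W5, hW5, hy5, hle5⟩ := exists_isAffineOpen_mem_and_subset (X := Y) (x := y) (U := W4) hy4
        have h52 : W5 ≤ W2 := fun z hz => hW32 (hW43 (hle5 hz))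
        have h5W : W5 ≤ W := fun z hz => h3W (hW43 (hle5 hz))
        let g5 : Fin C.c → Γ(Omega.conormal i, W5) := fun k => (Omega.conormal i).presheaf.map (homOfLE h5W).op (g k)
        let A5 : Fin p → Fin C.c → Γ(Y, W5) := fun j k =>
          Y.presheaf.map (homOfLE (fun z hz => hW3a j k (hW43 (hle5 hz)) : W5 ≤ Wa j k)).op (as j k)
        have he5 : (fun j => (Omega.conormal i).presheaf.map (homOfLE h52).op (e j)) =
            fun j => Fintype.linearCombination Γ(Y, W5) g5 (A5 j) := by
          funext j
          refine section_ext _ _ _ fun z hz => ?_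
          have h := h4 ⟨j⟩ z (hle5 hz)
          simp only [e3] at h
          rw [map_sub, sub_eq_zero, germ_map, map_sum] at h
          rw [germ_map, h, Fintype.linearCombination_apply, map_sum]
          refine Finset.sum_congr rfl fun k _ => ?_
          rw [Mero.germ_smul, Mero.germ_smul]
          simp only [as3, A5, g5, g, germ_map, TopCat.Presheaf.germ_res_apply]
        rw [← germ_map L h52 y hy5, hφ ⟨W2, hW2⟩ ⟨W5, hW5⟩ h52 e, he5]
        have hmap : ιMulti Γ(Y, W5) p (fun j => Fintype.linearCombination Γ(Y, W5) g5 (A5 j)) =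
            exteriorPower.map p (Fintype.linearCombination Γ(Y, W5) g5) (ιMulti Γ(Y, W5) p A5) :=
          (exteriorPower.map_apply_ιMulti _ _).symm
        rw [hmap, ← ((Pi.basisFun Γ(Y, W5) (Fin C.c)).exteriorPower p).sum_repr (ιMulti Γ(Y, W5) p A5),
          map_sum, map_sum, map_sum]
        refine Submodule.sum_mem _ fun s _ => ?_
        rw [map_smul, map_smul, Mero.germ_smul, exteriorPower.basis_apply, exteriorPower.map_apply_ιMulti_family]
        refine Submodule.smul_mem _ _ (Submodule.subset_span ⟨s, ?_⟩)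
        have hg5 : (fun j => (Omega.conormal i).presheaf.map (homOfLE h5W).op
            (g (Set.powersetCard.ofFinEmbEquiv.symm s j))) =
              (Fintype.linearCombination Γ(Y, W5) g5 ∘ Pi.basisFun Γ(Y, W5) (Fin C.c)) ∘
                Set.powersetCard.ofFinEmbEquiv.symm s := funext fun j => by simp [g5, Pi.basisFun_apply]
        simp only [lam, exteriorPower.ιMulti_family]
        rw [← germ_map L h5W y hy5, hφ ⟨W, hW⟩ ⟨W5, hW5⟩ h5W]
        exact congrArg (fun w => L.presheaf.germ W5 y hy5 ((φ ⟨W5, hW5⟩).symm (ιMulti Γ(Y, W5) p w))) hg5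
      | h0 => simp only [map_zero]; exact Submodule.zero_mem _
      | hadd u v hu hv => simp only [map_add]; exact Submodule.add_mem _ hu hv
      | hsmul r u hu => rw [map_smul, Mero.germ_smul]; exact Submodule.smul_mem _ _ hu
    constructor
    · refine (injective_iff_map_eq_zero _).2 fun l hl => ?_
      obtain ⟨b', hb'⟩ := (Submodule.mem_span_range_iff_exists_fun _).1 (hspan l)
      choose b'' hb'' using fun s => stalkMap_surj i y (b' s)
      have h := hcl b''
      simp only [hb'', hb', hl] at h
      rw [C.cl_eq_zero_iff] at h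
      rw [← hb']
      refine Finset.sum_eq_zero fun s _ => ?_
      have hc : b'' s ∈ idI i y := by
        have hs := Res.map_smul_top (idI i y) ((b.exteriorPower p).coord s) h
        rw [smul_eq_mul, Ideal.mul_top] at hs
        simp only [map_sum, map_smul, Module.Basis.coord_apply, Module.Basis.repr_self, smul_eq_mul,
          Finsupp.single_apply, mul_ite, mul_one, mul_zero, Finset.sum_ite_eq', Finset.mem_univ, if_true] at hs
        exact hs
      rw [← hb'', show (i.stalkMap y).hom (b'' s) = 0 from RingHom.mem_ker.1 hc, zero_smul]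
    · intro t
      obtain ⟨x, rfl⟩ := C.cl_surjective p t
      exact ⟨∑ s, (i.stalkMap y).hom ((b.exteriorPower p).repr x s) • lam s, by
        rw [← hcl, (b.exteriorPower p).sum_repr]⟩
  exact ⟨asIso θ⟩

end Groth.Agent.H16Derived.TorSelf
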