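import Groth.Agent.H16Derived.TorSelf.Alg

/-!
# Families of chains indexed by increasing tuples
-/

set_option autoImplicit false
set_option linter.unusedSectionVars false
set_option linter.style.haveILetI false

universe u

open exteriorPower
open Groth.Agent.H22Alg.Koszul (dL dL_ιMulti dL_dL coe_dL)

noncomputable section

namespace Groth.Agent.H16Derived.TorSelf.Res

variable {A : Type u} [CommRing A] {Q : Type u} [AddCommGroup Q] [Module A Q] (R : Res A Q) (J : Ideal A) (q₀ : Q)

/-- The linear form with given values on the standard basis. -/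
def form {p : ℕ} (f : Fin p → A) : (Fin p → A) →ₗ[A] A := Fintype.linearCombination A f

theorem form_basis {p : ℕ} (f : Fin p → A) (i : Fin p) : form f (Pi.basisFun A (Fin p) i) = f i := by
  rw [form, Pi.basisFun_apply, Fintype.linearCombination_apply_single, one_smul]

theorem form_mem {p : ℕ} {f : Fin p → A} (hf : ∀ i, f i ∈ J) (m : Fin p → A) : form f m ∈ J := by
  rw [form, Fintype.linearCombination_apply]
  exact Submodule.sum_mem _ fun i _ => J.mul_mem_left _ (hf i)

/-- The wedge of the standard basis vectors of a tuple. -/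
abbrev eW {p q : ℕ} (e : Fin q → Fin p) : ↥(⋀[A]^q (Fin p → A)) :=
  ιMulti A q fun i => Pi.basisFun A (Fin p) (e i)

theorem dL_eW {p q : ℕ} (f : Fin p → A) (e : Fin (q + 1) → Fin p) :
    dL (form f) q (eW e) = ∑ i : Fin (q + 1), ((-1 : A) ^ (i : ℕ) * f (e i)) • eW (e ∘ i.succAbove) := by
  rw [eW, dL_ιMulti, KoszSh.dGen]
  refine Finset.sum_congr rfl fun i _ => ?_
  rw [form_basis]
  rfl

/-- A family of chains which behaves like the images of the basis of a Koszul complex. -/
structure Fam {p : ℕ} (f : Fin p → A) where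
  Z : ∀ q, (Fin q → Fin p) → R.K q
  comm : ∀ q (e : Fin (q + 1) → Fin p), StrictMono e →
    R.d q (Z (q + 1) e) = ∑ i : Fin (q + 1), ((-1 : A) ^ (i : ℕ) * f (e i)) • Z q (e ∘ i.succAbove)
  base : ∀ e, R.ε (Z 0 e) = q₀

variable {R q₀} {p : ℕ} {f : Fin p → A}

/-- The top chain. -/
abbrev Fam.top (F : R.Fam q₀ f) : R.K p := F.Z p id

/-- The lift defined by a family. -/
def Fam.toMap (F : R.Fam q₀ f) (q : ℕ) : ↥(⋀[A]^q (Fin p → A)) →ₗ[A] R.K q :=
  ((Pi.basisFun A (Fin p)).exteriorPower q).constr A fun s => F.Z q (Set.powersetCard.ofFinEmbEquiv.symm s)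

theorem Fam.toMap_eW (F : R.Fam q₀ f) {q : ℕ} (e : Fin q → Fin p) (he : StrictMono e) :
    F.toMap q (eW e) = F.Z q e := by
  let s := Set.powersetCard.ofFinEmbEquiv (OrderEmbedding.ofStrictMono e he)
  have hs : ((Pi.basisFun A (Fin p)).exteriorPower q) s = eW e := by
    rw [exteriorPower.basis_apply, exteriorPower.ιMulti_family, Equiv.symm_apply_apply]
    rfl
  rw [← hs, Fam.toMap, Module.Basis.constr_basis, Equiv.symm_apply_apply]
  rfl

/-- A family gives a lift. -/
def Fam.toLift (F : R.Fam q₀ f) : R.Lift (form f) q₀ where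
  φ := F.toMap
  comm q x := by
    refine LinearMap.congr_fun (f := (R.d q).comp (F.toMap (q + 1))) (g := (F.toMap q).comp (dL (form f) q))
      (((Pi.basisFun A (Fin p)).exteriorPower (q + 1)).ext fun s => ?_) x
    have hs : ((Pi.basisFun A (Fin p)).exteriorPower (q + 1)) s = eW (Set.powersetCard.ofFinEmbEquiv.symm s) := by
      rw [exteriorPower.basis_apply]
      rfl
    have he : StrictMono (Set.powersetCard.ofFinEmbEquiv.symm s : Fin (q + 1) → Fin p) :=
      OrderEmbedding.strictMono _
    rw [LinearMap.comp_apply, LinearMap.comp_apply, hs, F.toMap_eW _ he, F.comm _ _ he, dL_eW, map_sum]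
    refine Finset.sum_congr rfl fun i _ => ?_
    rw [map_smul, F.toMap_eW _ (he.comp i.strictMono_succAbove)]
  base v := by
    rw [show ιMulti A 0 v = eW (A := A) (p := p) (fun i : Fin 0 => i.elim0) from
      congrArg _ (funext fun i => i.elim0), F.toMap_eW _ (fun i => i.elim0), F.base]

/-- A lift gives a family. -/
def Lift.toFam (L : R.Lift (form f) q₀) : R.Fam q₀ f where
  Z q e := L.φ q (eW e)
  comm q e _ := by
    rw [L.comm, dL_eW, map_sum]
    simp only [map_smul]
  base e := L.base _

variable {c : ℕ} {g : (Fin c → A) →ₗ[A] A}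

/-- The lift for a tuple inside a chart. -/
def Lift.tuple (L : R.Lift g q₀) (v : Fin p → Fin c → A) (hv : ∀ i, g (v i) = f i) : R.Lift (form f) q₀ where
  φ := (L.comp (Fintype.linearCombination A v)).φ
  comm q x := by
    have e : form f = g.comp (Fintype.linearCombination A v) := (Pi.basisFun A (Fin p)).ext fun i => by
      rw [form_basis, LinearMap.comp_apply, Pi.basisFun_apply, Fintype.linearCombination_apply_single, one_smul, hv]
    rw [(L.comp (Fintype.linearCombination A v)).comm, e]
  base := (L.comp (Fintype.linearCombination A v)).base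

theorem Lift.tuple_eW (L : R.Lift g q₀) (v : Fin p → Fin c → A) (hv : ∀ i, g (v i) = f i) :
    (L.tuple v hv).φ p (eW id) = L.φ p (ιMulti A p v) := by
  show L.φ p (exteriorPower.map p (Fintype.linearCombination A v) (eW id)) = _
  rw [eW, exteriorPower.map_apply_ιMulti]
  refine congrArg (fun w => L.φ p (ιMulti A p w)) (funext fun i => ?_)
  simp

/-- The top chain of a family is read in a chart. -/
theorem Fam.top_sub_mem (F : R.Fam q₀ f) (L : R.Lift g q₀) (hf : ∀ i, f i ∈ J) (v : Fin p → Fin c → A)
    (hv : ∀ i, g (v i) = f i) : F.top - L.φ p (ιMulti A p v) ∈ R.Bb J p := by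
  have h := F.toLift.sub_mem J (L.tuple v hv) (form_mem J hf) p (eW id)
  rwa [L.tuple_eW, show F.toLift.φ p (eW id) = F.top from F.toMap_eW id strictMono_id] at h

theorem exists_fam (L : R.Lift g q₀) (v : Fin p → Fin c → A) (hv : ∀ i, g (v i) = f i) :
    Nonempty (R.Fam q₀ f) :=
  ⟨(L.tuple v hv).toFam⟩

/-- Tuples with the same values modulo `J ²` agree modulo `J`. -/
theorem sub_mem_smul (hK : KExact g q₀) (hg : ∀ m, g m ∈ J) (hJ : ∀ a ∈ J, ∃ m, g m = a) {v : Fin c → A}
    (hv : g v ∈ J * J) : v ∈ (J • ⊤ : Submodule A (Fin c → A)) := by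
  have h : g v ∈ (J • ⊤ : Submodule A (Fin c → A)).map g := by
    rw [Submodule.map_smul'']
    refine Submodule.smul_mono le_rfl (fun a ha => ?_) hv
    obtain ⟨m, hm⟩ := hJ a ha
    exact ⟨m, trivial, hm⟩
  obtain ⟨w, hw, hwv⟩ := h
  let e1 : ↥(⋀[A]^1 (Fin c → A)) ≃ₗ[A] (Fin c → A) := exteriorPower.oneEquiv A (Fin c → A)
  have key : ∀ m : Fin c → A, dL g 0 (e1.symm m) = g m • ιMulti A 0 (fun i : Fin 0 => i.elim0) := fun m => by
    have : e1.symm m = ιMulti A 1 fun _ => m := by
      rw [LinearEquiv.symm_apply_eq]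
      simp [e1]
    rw [this, dL_ιMulti_one]
  obtain ⟨y, hy⟩ := hK.exact 0 (e1.symm (v - w)) (by rw [key, map_sub, hwv, sub_self, zero_smul])
  have hmem : v - w ∈ (J • ⊤ : Submodule A (Fin c → A)) := by
    rw [← e1.apply_symm_apply (v - w), ← hy]
    exact map_smul_top J e1.toLinearMap (dL_mem_smul J hg 1 y)
  exact (Submodule.sub_mem_iff_left _ hw).1 hmem

variable {N : Type u} [AddCommGroup N] [Module A N]

/-- An alternating map takes congruent tuples to congruent values modulo `J`. -/
theorem congr_of_sub_mem {M' : Type u} [AddCommGroup M'] [Module A M'] (φ : M' [⋀^Fin p]→ₗ[A] N) (w v : Fin p → M')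
    (h : ∀ j, w j - v j ∈ (J • ⊤ : Submodule A M')) :
    (Submodule.Quotient.mk (φ w) : N ⧸ (J • ⊤ : Submodule A N)) = Submodule.Quotient.mk (φ v) := by
  classical
  have key : ∀ s : Finset (Fin p), (Submodule.Quotient.mk (φ (s.piecewise w v)) : N ⧸ (J • ⊤ : Submodule A N)) =
      Submodule.Quotient.mk (φ v) := by
    intro s
    induction s using Finset.induction with
    | empty => rw [Finset.piecewise_empty]
    | insert j s hj ih =>
      rw [Finset.piecewise_insert, ← ih, Submodule.Quotient.eq]
      have hP : Function.update (s.piecewise w v) j (v j) = s.piecewise w v := by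
        rw [← Finset.piecewise_eq_of_notMem s w v hj, Function.update_eq_self]
      have e : φ (Function.update (s.piecewise w v) j (w j)) =
          φ (Function.update (s.piecewise w v) j (w j - v j)) + φ (s.piecewise w v) := by
        conv_lhs => rw [← sub_add_cancel (w j) (v j), AlternatingMap.map_update_add, hP]
      rw [e, add_sub_cancel_right]
      exact map_smul_top J (φ.toMultilinearMap.toLinearMap (s.piecewise w v) j) (h j)
  have h' := key Finset.univ
  rwa [Finset.piecewise_univ] at h'

end Groth.Agent.H16Derived.TorSelf.Res
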