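import Groth.Agent.H16Derived.TorSelf.Iso
import Groth.Agent.H16Derived.KFlat.SheafAssoc
import Groth.Agent.H16Derived.ProjFormula.ClosedImm
import Groth.Agent.H16Derived.ProjFormula.Map
import Groth.Prelude.Def_RegImm
import Groth.Prelude.Def_Mor2

/-!
# Tor sheaves of a regular immersion with itself
-/

set_option autoImplicit false
set_option linter.style.haveILetI false
set_option linter.unusedSectionVars false
set_option maxHeartbeats 1000000
set_option synthInstance.maxHeartbeats 400000
set_option backward.isDefEq.respectTransparency false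

universe u

open CategoryTheory CategoryTheory.Limits AlgebraicGeometry Opposite TopologicalSpace
open scoped TensorProduct
open Groth.Agent.H16Derived.KFlat Groth.Agent.H16Derived.KFlat.Stalk
open Groth.Agent.H16Derived.ProjFormula (push pull adj Killed killed_push isIso_unit_of_killed)
open Groth.Agent.H17.FLI (O')

attribute [local instance] HasDerivedCategory.standard

namespace Groth.Agent.H16Derived.TorSelf

variable {X Y : Scheme.{u}} (i : Y ⟶ X) [IsClosedImmersion i]

theorem exists_reso : ∃ P : Reso i, Nonempty (DCoh.toD X P.Q ≅ DCoh.inD X (O' i)) := by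
  let K := (CochainComplex.singleFunctor X.Modules 0).obj (O' i)
  obtain ⟨Q, α, hQ, hf, hα⟩ := exists_flat_resolution K 0
  haveI := hQ
  haveI := hα
  let ε : Q.X (deg 0) ⟶ O' i := α.f 0 ≫ (HomologicalComplex.singleObjXSelf (ComplexShape.up ℤ) (0 : ℤ) (O' i)).hom
  have w : Q.d (deg 1) (deg 0) ≫ ε = 0 := by
    show Q.d (deg 1) 0 ≫ α.f 0 ≫ _ = 0
    rw [← Category.assoc, ← α.comm (deg 1) 0,
      ((HomologicalComplex.isZero_single_obj_X (ComplexShape.up ℤ) (0 : ℤ) (O' i) (deg 1) (by simp [deg])).eq_of_tgt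
        (α.f (deg 1)) 0), zero_comp, zero_comp]
  haveI : IsIso (HomologicalComplex.homologyMap α 0) := inferInstance
  -- the augmentation is the cokernel
  let e : Q.homology 0 ≅ O' i :=
    asIso (HomologicalComplex.homologyMap α 0) ≪≫
      HomologicalComplex.singleObjHomologySelfIso (ComplexShape.up ℤ) (0 : ℤ) (O' i)
  have hd : Q.d 0 1 = 0 := (Q.isZero_of_isStrictlyLE 0 1 (by omega)).eq_of_tgt _ _
  haveI : IsIso (Q.iCycles 0) := Q.isIso_iCycles 0 1 (by simp) hd
  have hε : Q.iCycles 0 ≫ ε = Q.homologyπ 0 ≫ e.hom := by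
    show Q.iCycles 0 ≫ α.f 0 ≫ _ = Q.homologyπ 0 ≫ HomologicalComplex.homologyMap α 0 ≫ _
    rw [← HomologicalComplex.cyclesMap_i_assoc, ← Category.assoc (Q.homologyπ 0),
      HomologicalComplex.homologyπ_naturality, Category.assoc]
    refine congrArg (_ ≫ ·) ?_
    refine Eq.trans ?_ (HomologicalComplex.homologyπ_singleObjHomologySelfIso_hom (ComplexShape.up ℤ) (0 : ℤ) (O' i)).symm
    rfl
  have h01 : (ShortComplex.mk (Q.toCycles (deg 1) 0) (Q.homologyπ 0) (Q.toCycles_comp_homologyπ _ _)).Exact :=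
    ShortComplex.exact_of_g_is_cokernel _ (Q.homologyIsCokernel (deg 1) 0 (by simp [deg]))
  have hepi : Epi ε := by
    rw [show ε = inv (Q.iCycles 0) ≫ Q.homologyπ 0 ≫ e.hom by rw [← hε, IsIso.inv_hom_id_assoc]]
    infer_instance
  haveI := isIso_Q_map α hα
  refine ⟨⟨Q, fun n hn => Q.isZero_of_isStrictlyLE 0 n hn, hf, fun p => ?_, ε, w, ?_, hepi⟩,
    ⟨asIso (DerivedCategory.Q.map α) ≪≫ ((DerivedCategory.singleFunctorIsoCompQ X.Modules 0).app (O' i)).symm⟩⟩
  · rw [← HomologicalComplex.exactAt_iff' Q _ _ _ (by simp [deg]; omega) (by simp [deg])]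
    have h1 : (HomologicalComplex.ExactAt K (deg (p + 1))) :=
      (HomologicalComplex.exactAt_iff _ _).2 (ShortComplex.exact_of_isZero_X₂ _
        (HomologicalComplex.isZero_single_obj_X (ComplexShape.up ℤ) (0 : ℤ) (O' i) (deg (p + 1)) (by simp [deg]; omega)))
    exact (HomologicalComplex.exactAt_iff_isZero_homology _ _).2
      (((HomologicalComplex.exactAt_iff_isZero_homology _ _).1 h1).of_iso (asIso (HomologicalComplex.homologyMap α (deg (p + 1)))))
  · refine ShortComplex.exact_of_iso (S₁ := ShortComplex.mk (Q.toCycles (deg 1) 0) (Q.homologyπ 0)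
      (Q.toCycles_comp_homologyπ _ _)) ?_ h01
    exact ShortComplex.isoMk (Iso.refl _) (asIso (Q.iCycles 0)) e
      (by simp [deg]) hε

theorem killed_tensor_O' (N : X.Modules) : Killed i ((DCoh.tensorRightMod (O' i)).obj N) := by
  have hk := killed_push i (Coh.structureModule Y)
  refine ⟨fun y r hr a => ?_, fun x hx => ?_⟩
  · obtain ⟨t, rfl⟩ := (stalkEquiv N (O' i) (i.base y)).surjective a
    suffices h0 : r • t = 0 from ((stalkEquiv N (O' i) (i.base y)).map_smul r t).symm.trans
      ((congrArg (stalkEquiv N (O' i) (i.base y)) h0).trans (map_zero (stalkEquiv N (O' i) (i.base y))))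
    induction t using TensorProduct.induction_on with
    | zero => exact smul_zero _
    | add a b ha hb => rw [smul_add, ha, hb, add_zero]
    | tmul m o =>
      rw [← TensorProduct.tmul_smul]
      erw [hk.smul_eq_zero y r hr o]
      exact TensorProduct.tmul_zero _ _
  · haveI : Subsingleton ((O' i).presheaf.stalk x) := hk.subsingleton x hx
    haveI : Subsingleton (N.presheaf.stalk x ⊗[X.presheaf.stalk x] (O' i).presheaf.stalk x) := by
      refine subsingleton_of_forall_eq 0 fun t => ?_
      induction t using TensorProduct.induction_on with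
      | zero => rfl
      | add a b ha hb => rw [ha, hb, add_zero]
      | tmul m o => rw [Subsingleton.elim o 0, TensorProduct.tmul_zero]
    exact (stalkEquiv N (O' i) x).surjective.subsingleton

/-- `- ⊗ i_* O_Y = i_* i^*`. -/
noncomputable def tensorO'Iso : DCoh.tensorRightMod (O' i) ≅ pull i ⋙ push i :=
  haveI : ∀ N, IsIso ((adj i).unit.app ((DCoh.tensorRightMod (O' i)).obj N)) := fun N =>
    isIso_unit_of_killed i (killed_tensor_O' i N)
  haveI : IsIso ((adj i).counit.app (Coh.structureModule Y)) :=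
    ProjFormula.isIso_counit_of_isClosedImmersion i _
  (NatIso.ofComponents (F := DCoh.tensorRightMod (O' i)) (G := (DCoh.tensorRightMod (O' i) ⋙ pull i) ⋙ push i)
      (fun N => asIso ((adj i).unit.app ((DCoh.tensorRightMod (O' i)).obj N)))
      (fun f => (adj i).unit.naturality ((DCoh.tensorRightMod (O' i)).map f))) ≪≫
    Functor.isoWhiskerRight (Functor.isoWhiskerRight (tensorRightModIso (O' i)) (pull i) ≪≫ pullTensorLIso i (O' i) ≪≫
      Functor.isoWhiskerLeft (pull i)
        ((DCoh.tensorBi (X := Y)).flip.mapIso (asIso ((adj i).counit.app (Coh.structureModule Y))) ≪≫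
          ProjFormula.ρ Y) ≪≫ (pull i).rightUnitor) (push i)

variable {i}

/-- The Tor sheaves of `O_Y` with itself over `X`. -/
theorem nonempty_hd_ltensor (P : Reso i) (eP : DCoh.toD X P.Q ≅ DCoh.inD X (O' i)) [DCoh.HasLTensorMod (O' i)] (p : ℕ) :
    Nonempty (DCoh.HD ((DCoh.LTensorMod (O' i)).obj (DCoh.inD X (O' i))) (deg p) ≅ (push i).obj (P.T p)) := by
  haveI := ProjFormula.preservesHomology_push i
  have hlk := lkflat_of_boundedAbove P.Q 0 P.le P.flat
  let c : ((DCoh.tensorRightMod (O' i)).mapHomologicalComplex (ComplexShape.up ℤ)).obj P.Q ≅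
      ((push i).mapHomologicalComplex (ComplexShape.up ℤ)).obj P.iQ :=
    (NatIso.mapHomologicalComplex (tensorO'Iso i) (ComplexShape.up ℤ)).app P.Q ≪≫
      HomologicalComplex.Hom.isoOfComponents (fun _ => Iso.refl _)
        (fun a b _ => (Category.id_comp _).trans (Category.comp_id _).symm)
  exact ⟨(DerivedCategory.homologyFunctor X.Modules (deg p)).mapIso ((DCoh.LTensorMod (O' i)).mapIso eP.symm) ≪≫
    hdLTensorModIso (O' i) P.Q hlk (deg p) ≪≫ (HomologicalComplex.homologyFunctor _ _ (deg p)).mapIso c ≪≫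
    (P.iQ.sc (deg p)).mapHomologyIso (push i)⟩

theorem locReg_of_regular (hi : RegImm.IsRegularImmersion RegImm.Kind.regular i) : LocReg i := by
  refine locReg_of_ideal i fun y => ?_
  obtain ⟨U, hy, -, rs, hreg, hker⟩ := hi.2 y
  exact ⟨U, rs, hy, (hreg : RingTheory.Sequence.IsRegular Γ(X, U.1) rs).toIsWeaklyRegular,
    by rw [Scheme.Hom.ker_apply]; exact hker⟩

theorem locReg_of_mor2 (hi : Mor2.IsRegularClosedImmersion i) : LocReg i := by
  refine locReg_of_ideal i fun y => ?_
  obtain ⟨U, hU, hy, rs, hreg, hker⟩ := hi.2 y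
  exact ⟨⟨U, hU⟩, rs, hy, hreg.toIsWeaklyRegular, hker⟩

theorem locReg_of_koszul (hi : RegImm.IsRegularImmersion RegImm.Kind.koszul i) : LocReg i := by
  refine locReg_of_koszul_ideal i fun y => ?_
  obtain ⟨U, hy, -, rs, hreg, hker⟩ := hi.2 y
  exact ⟨U, rs, hy, hreg, by rw [Scheme.Hom.ker_apply]; exact hker⟩

/-- **`Tor_q(O_Y, O_Y) ≅ i_* ⋀^q N`.** -/
theorem main (hi : LocReg i) [DCoh.HasLTensorMod (O' i)] (q : ℕ) (L : Y.Modules)
    (hL : ExtPow.IsExtPow q (Omega.conormal i) L) :
    Nonempty (DCoh.HD ((DCoh.LTensorMod (O' i)).obj (DCoh.inD X (O' i))) (deg q) ≅ (push i).obj L) := by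
  obtain ⟨P, ⟨eP⟩⟩ := exists_reso i
  obtain ⟨e⟩ := nonempty_hd_ltensor P eP q
  obtain ⟨e'⟩ := nonempty_iso (P := P) (hi := hi) hL
  exact ⟨e ≪≫ (push i).mapIso e'.symm⟩

end Groth.Agent.H16Derived.TorSelf
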