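import Groth.Agent.H22Alg.Koszul
import Groth.Agent.H8Props.FlatKernel
import Mathlib

/-!
# Comparing a Koszul complex with a flat resolution, modulo the ideal
-/

set_option autoImplicit false
set_option linter.unusedSectionVars false
set_option linter.style.haveILetI false

universe u

open exteriorPower
open Groth.Agent.H22Alg.Koszul (dL dL_ιMulti dL_dL coe_dL)

noncomputable section

namespace Groth.Agent.H16Derived.TorSelf

variable (A : Type u) [CommRing A]

/-- A resolution of `Q` by flat modules. -/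
structure Res (Q : Type u) [AddCommGroup Q] [Module A Q] where
  K : ℕ → ModuleCat.{u} A
  d : ∀ n, K (n + 1) →ₗ[A] K n
  dd : ∀ n x, d n (d (n + 1) x) = 0
  exact : ∀ n x, d n x = 0 → ∃ y, d (n + 1) y = x
  ε : K 0 →ₗ[A] Q
  ε_d : ∀ x, ε (d 0 x) = 0
  exact₀ : ∀ x, ε x = 0 → ∃ y, d 0 y = x
  ε_surj : Function.Surjective ε
  flat : ∀ n, Module.Flat A (K n)

variable {A} {Q : Type u} [AddCommGroup Q] [Module A Q] (R : Res A Q) (J : Ideal A)

namespace Res

/-- Chains which are cycles modulo `J`. -/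
def Zb : ∀ n, Submodule A (R.K n)
  | 0 => ⊤
  | n + 1 => (J • ⊤ : Submodule A (R.K n)).comap (R.d n)

/-- Chains which are boundaries modulo `J`. -/
def Bb (n : ℕ) : Submodule A (R.K n) := LinearMap.range (R.d n) ⊔ J • ⊤

theorem mem_Zb_succ {n : ℕ} {x : R.K (n + 1)} : x ∈ R.Zb J (n + 1) ↔ R.d n x ∈ (J • ⊤ : Submodule A (R.K n)) :=
  Iff.rfl

theorem d_mem_Bb (n : ℕ) (x : R.K (n + 1)) : R.d n x ∈ R.Bb J n :=
  Submodule.mem_sup_left ⟨x, rfl⟩

theorem smul_mem_Bb {n : ℕ} {x : R.K n} (h : x ∈ (J • ⊤ : Submodule A (R.K n))) : x ∈ R.Bb J n :=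
  Submodule.mem_sup_right h

variable {M : Type u} [AddCommGroup M] [Module A M]

/-- A chain map from the Koszul complex of the linear form `g` extending `1 ↦ q₀`. -/
structure Lift (g : M →ₗ[A] A) (q₀ : Q) where
  φ : ∀ p, ↥(⋀[A]^p M) →ₗ[A] R.K p
  comm : ∀ p x, R.d p (φ (p + 1) x) = φ p (dL g p x)
  base : ∀ v : Fin 0 → M, R.ε (φ 0 (ιMulti A 0 v)) = q₀

variable {g : M →ₗ[A] A} {q₀ : Q}

theorem dL_mem_smul (hg : ∀ m, g m ∈ J) (p : ℕ) (x : ↥(⋀[A]^(p + 1) M)) :
    dL g p x ∈ (J • ⊤ : Submodule A ↥(⋀[A]^p M)) := by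
  suffices h : (⊤ : Submodule A ↥(⋀[A]^(p + 1) M)) ≤
      (J • ⊤ : Submodule A ↥(⋀[A]^p M)).comap (dL g p) from h (Submodule.mem_top (x := x))
  rw [← exteriorPower.ιMulti_span A (p + 1) M]
  refine Submodule.span_le.2 ?_
  rintro _ ⟨e, rfl⟩
  show dL g p (ιMulti A (p + 1) e) ∈ (J • ⊤ : Submodule A ↥(⋀[A]^p M))
  rw [dL_ιMulti, KoszSh.dGen]
  refine Submodule.sum_mem _ fun i _ => Submodule.smul_mem_smul ?_ trivial
  exact J.mul_mem_left _ (hg _)

theorem map_smul_top {N N' : Type u} [AddCommGroup N] [Module A N] [AddCommGroup N'] [Module A N']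
    (f : N →ₗ[A] N') {x : N} (h : x ∈ (J • ⊤ : Submodule A N)) : f x ∈ (J • ⊤ : Submodule A N') := by
  have h' := Submodule.mem_map_of_mem (f := f) h
  rw [Submodule.map_smul''] at h'
  exact Submodule.smul_mono le_rfl le_top h'

theorem Lift.mem_Zb (L : R.Lift g q₀) (hg : ∀ m, g m ∈ J) : ∀ (p : ℕ) (x : ↥(⋀[A]^p M)), L.φ p x ∈ R.Zb J p
  | 0, _ => trivial
  | p + 1, x => by
    rw [R.mem_Zb_succ, L.comm]
    exact map_smul_top J _ (dL_mem_smul J hg p x)

variable [∀ p, Module.Projective A ↥(⋀[A]^p M)]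

theorem exists_lift (hq : ∀ m, g m • q₀ = 0) : Nonempty (R.Lift g q₀) := by
  obtain ⟨k₀, hk₀⟩ := R.ε_surj q₀
  let φ₀ : ↥(⋀[A]^0 M) →ₗ[A] R.K 0 := (LinearMap.toSpanSingleton A _ k₀).comp (zeroEquiv A M).toLinearMap
  let P : ∀ p, (↥(⋀[A]^p M) →ₗ[A] R.K p) → Prop := fun p => match p with
    | 0 => fun φ => ∀ x, R.ε (φ (dL g 0 x)) = 0
    | p + 1 => fun φ => ∀ x, R.d p (φ (dL g (p + 1) x)) = 0
  have h₀ : P 0 φ₀ := by
    intro x
    refine LinearMap.congr_fun (f := (R.ε.comp φ₀).comp (dL g 0)) (g := 0) (exteriorPower.linearMap_ext ?_) x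
    refine AlternatingMap.ext fun e => ?_
    simp only [LinearMap.compAlternatingMap_apply, LinearMap.comp_apply, LinearMap.zero_apply, dL_ιMulti,
      KoszSh.dGen, map_sum, map_smul]
    refine Finset.sum_eq_zero fun i _ => ?_
    simp only [φ₀, LinearMap.comp_apply, LinearEquiv.coe_coe, zeroEquiv_ιMulti, LinearMap.toSpanSingleton_apply,
      one_smul, hk₀]
    rw [mul_smul, hq, smul_zero]
  have hP : ∀ p (φ : ↥(⋀[A]^p M) →ₗ[A] R.K p), P p φ → ∀ x, ∃ y, R.d p y = φ (dL g p x) := by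
    intro p φ h x
    cases p with
    | zero => exact R.exact₀ _ (h x)
    | succ p => exact R.exact p _ (h x)
  have step : ∀ p (φ : ↥(⋀[A]^p M) →ₗ[A] R.K p), P p φ →
      ∃ ψ : ↥(⋀[A]^(p + 1) M) →ₗ[A] R.K (p + 1), (∀ x, R.d p (ψ x) = φ (dL g p x)) ∧ P (p + 1) ψ := by
    intro p φ h
    obtain ⟨ψ, hψ⟩ := Module.projective_lifting_property (R.d p).rangeRestrict
      ((φ.comp (dL g p)).codRestrict (LinearMap.range (R.d p)) fun x => hP p φ h x)
      (R.d p).surjective_rangeRestrict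
    have e : ∀ x, R.d p (ψ x) = φ (dL g p x) := fun x => congrArg Subtype.val (LinearMap.congr_fun hψ x)
    exact ⟨ψ, e, fun x => by rw [e, dL_dL, map_zero]⟩
  choose next hnext hnextP using step
  let Φ : ∀ p, {φ : ↥(⋀[A]^p M) →ₗ[A] R.K p // P p φ} := fun p =>
    Nat.rec ⟨φ₀, h₀⟩ (fun p φ => ⟨next p φ.1 φ.2, hnextP p φ.1 φ.2⟩) p
  exact ⟨⟨fun p => (Φ p).1, fun p x => hnext p (Φ p).1 (Φ p).2 x, fun v => by
    show R.ε (φ₀ _) = q₀
    simp [φ₀, hk₀]⟩⟩

variable {R}

/-- Two lifts agree modulo boundaries and `J`. -/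
theorem Lift.sub_mem (L L' : R.Lift g q₀) (hg : ∀ m, g m ∈ J) (p : ℕ) (x : ↥(⋀[A]^p M)) :
    L.φ p x - L'.φ p x ∈ R.Bb J p := by
  let D : ∀ p, ↥(⋀[A]^p M) →ₗ[A] R.K p := fun p => L.φ p - L'.φ p
  have hD : ∀ p x, R.d p (D (p + 1) x) = D p (dL g p x) := fun p x => by
    simp [D, L.comm, L'.comm]
  have h00 : ∀ x, ∃ y, R.d 0 y = D 0 x := by
    intro x
    refine R.exact₀ _ (LinearMap.congr_fun (f := R.ε.comp (D 0)) (g := 0) (exteriorPower.linearMap_ext ?_) x)
    refine AlternatingMap.ext fun e => ?_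
    simp [D, L.base, L'.base]
  have main : ∀ p, ∃ h : ↥(⋀[A]^p M) →ₗ[A] R.K (p + 1),
      (∀ x, D p x - R.d p (h x) ∈ (J • ⊤ : Submodule A (R.K p))) ∧
        ∀ x, R.d (p) (D (p + 1) x - h (dL g p x)) = 0 := by
    intro p
    induction p with
    | zero =>
      obtain ⟨h, hh⟩ := Module.projective_lifting_property (R.d 0).rangeRestrict
        ((D 0).codRestrict (LinearMap.range (R.d 0)) fun x => h00 x) (R.d 0).surjective_rangeRestrict
      have e : ∀ x, R.d 0 (h x) = D 0 x := fun x => congrArg Subtype.val (LinearMap.congr_fun hh x)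
      exact ⟨h, fun x => by rw [e, sub_self]; exact zero_mem _, fun x => by rw [map_sub, hD, e, sub_self]⟩
    | succ p ih =>
      obtain ⟨h, -, h2⟩ := ih
      let E : ↥(⋀[A]^(p + 1) M) →ₗ[A] R.K (p + 1) := D (p + 1) - h.comp (dL g p)
      obtain ⟨h', hh⟩ := Module.projective_lifting_property (R.d (p + 1)).rangeRestrict
        (E.codRestrict (LinearMap.range (R.d (p + 1))) fun x => R.exact p _ (h2 x))
        (R.d (p + 1)).surjective_rangeRestrict
      have e : ∀ x, R.d (p + 1) (h' x) = D (p + 1) x - h (dL g p x) := fun x =>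
        congrArg Subtype.val (LinearMap.congr_fun hh x)
      refine ⟨h', fun x => ?_, fun x => ?_⟩
      · rw [e, sub_sub_cancel]
        exact map_smul_top J h (dL_mem_smul J hg p x)
      · rw [map_sub, hD, e, dL_dL, map_zero, sub_zero, sub_self]
  obtain ⟨h, h1, -⟩ := main p
  refine (Submodule.add_mem_iff_left (R.Bb J p) (R.smul_mem_Bb J ?_)).1 (show
    (L.φ p x - L'.φ p x) + -((D p x - R.d p (h x))) ∈ R.Bb J p from ?_)
  · exact neg_mem (h1 x)
  · have : (L.φ p x - L'.φ p x) + -(D p x - R.d p (h x)) = R.d p (h x) := by simp [D]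
    rw [this]
    exact R.d_mem_Bb J p _

variable {M' : Type u} [AddCommGroup M'] [Module A M']

theorem map_dL (C : M' →ₗ[A] M) (p : ℕ) (x : ↥(⋀[A]^(p + 1) M')) :
    exteriorPower.map p C (dL (g.comp C) p x) = dL g p (exteriorPower.map (p + 1) C x) := by
  refine LinearMap.congr_fun (f := (exteriorPower.map p C).comp (dL (g.comp C) p))
    (g := (dL g p).comp (exteriorPower.map (p + 1) C)) (exteriorPower.linearMap_ext ?_) x
  refine AlternatingMap.ext fun e => ?_
  simp only [LinearMap.compAlternatingMap_apply, LinearMap.comp_apply, map_apply_ιMulti, dL_ιMulti,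
    KoszSh.dGen, map_sum, map_smul]
  rfl

/-- Lifts are functorial in the form. -/
def Lift.comp (L : R.Lift g q₀) (C : M' →ₗ[A] M) : R.Lift (g.comp C) q₀ where
  φ p := (L.φ p).comp (exteriorPower.map p C)
  comm p x := by
    simp only [LinearMap.comp_apply]
    rw [L.comm, map_dL]
  base v := by simp [map_apply_ιMulti, L.base]

/-- An exact complex of flat modules stays exact modulo an ideal. -/
theorem exact_mod {C : ℕ → Type u} [∀ n, AddCommGroup (C n)] [∀ n, Module A (C n)]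
    (d : ∀ n, C (n + 1) →ₗ[A] C n) (hflat : ∀ n, Module.Flat A (C n)) (hdd : ∀ n x, d n (d (n + 1) x) = 0)
    (hexact : ∀ n x, d n x = 0 → ∃ y, d (n + 1) y = x) (hsurj : Function.Surjective (d 0))
    (n : ℕ) (x : C (n + 1)) (hx : d n x ∈ (J • ⊤ : Submodule A (C n))) :
    x ∈ LinearMap.range (d (n + 1)) ⊔ (J • ⊤ : Submodule A (C (n + 1))) := by
  have hZ : ∀ n, Module.Flat A ↥(LinearMap.range (d n)) := by
    intro n
    induction n with
    | zero =>
      haveI := hflat 0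
      exact Module.Flat.of_linearEquiv (LinearEquiv.ofTop _ (LinearMap.range_eq_top.2 hsurj))
    | succ n ih =>
      haveI := hflat (n + 1)
      haveI := ih
      refine H8Props.flat_of_exact (LinearMap.range (d (n + 1))).subtype (d n).rangeRestrict
        Subtype.val_injective (fun y => ?_) (d n).surjective_rangeRestrict
      constructor
      · intro hy
        exact ⟨⟨y, hexact n y (congrArg Subtype.val hy)⟩, rfl⟩
      · rintro ⟨⟨_, z, rfl⟩, rfl⟩
        exact Subtype.ext (hdd n z)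
  -- `range ∩ J C = J range`
  have key : ∀ y ∈ LinearMap.range (d n), y ∈ (J • ⊤ : Submodule A (C n)) → y ∈ J • LinearMap.range (d n) := by
    intro y hy hyJ
    cases n with
    | zero =>
      rwa [LinearMap.range_eq_top.2 hsurj]
    | succ n =>
      haveI := hZ n
      have hinj := LinearMap.lTensor_injective_of_exact_of_flat (d n).rangeRestrict (d n).surjective_rangeRestrict
        (LinearMap.range (d (n + 1))).subtype Subtype.val_injective (fun z => ⟨fun hz =>
          ⟨⟨z, hexact n z (congrArg Subtype.val hz)⟩, rfl⟩, by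
            rintro ⟨⟨_, w, rfl⟩, rfl⟩
            exact Subtype.ext (hdd n w)⟩) (A ⧸ J)
      have h0 : ((1 : A ⧸ J) ⊗ₜ[A] (⟨y, hy⟩ : LinearMap.range (d (n + 1)))) = 0 := by
        refine hinj ?_
        rw [LinearMap.lTensor_tmul, map_zero]
        refine (TensorProduct.quotTensorEquivQuotSMul _ J).injective ?_
        rw [map_zero, ← map_one (Ideal.Quotient.mk J), TensorProduct.quotTensorEquivQuotSMul_mk_tmul, one_smul]
        exact (Submodule.Quotient.mk_eq_zero _).2 hyJ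
      have h1 := congrArg (TensorProduct.quotTensorEquivQuotSMul _ J) h0
      rw [map_zero, ← map_one (Ideal.Quotient.mk J), TensorProduct.quotTensorEquivQuotSMul_mk_tmul, one_smul] at h1
      have h2 : (⟨y, hy⟩ : LinearMap.range (d (n + 1))) ∈ (J • ⊤ : Submodule A (LinearMap.range (d (n + 1)))) :=
        (Submodule.Quotient.mk_eq_zero _).1 h1
      have h3 := Submodule.mem_map_of_mem (f := (LinearMap.range (d (n + 1))).subtype) h2
      rwa [Submodule.map_smul'', Submodule.map_top, Submodule.range_subtype] at h3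
  have h1 := key _ ⟨x, rfl⟩ hx
  rw [← Submodule.map_top (d n), ← Submodule.map_smul''] at h1
  obtain ⟨z, hz, hzx⟩ := h1
  obtain ⟨w, hw⟩ := hexact n (x - z) (by rw [map_sub, hzx, sub_self])
  exact Submodule.mem_sup.2 ⟨_, ⟨w, hw⟩, z, hz, sub_add_cancel x z⟩

/-- The Koszul complex resolves `Q`. -/
structure KExact (g : M →ₗ[A] A) (q₀ : Q) : Prop where
  exact : ∀ p (x : ↥(⋀[A]^(p + 1) M)), dL g p x = 0 → ∃ y, dL g (p + 1) y = x
  span : ∀ q : Q, ∃ a : A, a • q₀ = q
  ann : ∀ a : A, a • q₀ = 0 → ∃ m, g m = a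

theorem dL_ιMulti_one (m : M) (v : Fin 0 → M) :
    dL g 0 (ιMulti A 1 fun _ => m) = g m • ιMulti A 0 v := by
  rw [dL_ιMulti, KoszSh.dGen, Fin.sum_univ_one]
  simp only [Fin.val_zero, pow_zero, one_mul]
  exact congrArg _ (congrArg _ (Subsingleton.elim _ _))

theorem eq_smul_ιMulti_zero (x : ↥(⋀[A]^0 M)) (v : Fin 0 → M) : x = zeroEquiv A M x • ιMulti A 0 v :=
  (zeroEquiv A M).injective (by rw [map_smul, zeroEquiv_ιMulti, smul_eq_mul, mul_one])

/-- The cone of a lift. -/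
abbrev coneX (R : Res A Q) (M : Type u) [AddCommGroup M] [Module A M] : ℕ → Type u
  | 0 => R.K 0
  | n + 1 => R.K (n + 1) × ↥(⋀[A]^n M)

theorem Lift.bijective (L : R.Lift g q₀) (hK : KExact g q₀) [∀ p, Module.Flat A ↥(⋀[A]^p M)]
    (hg : ∀ m, g m ∈ J) :
    (∀ (p : ℕ) (z : R.K p), z ∈ R.Zb J p → ∃ x, z - L.φ p x ∈ R.Bb J p) ∧
      ∀ (p : ℕ) (x : ↥(⋀[A]^p M)), L.φ p x ∈ R.Bb J p → x ∈ (J • ⊤ : Submodule A ↥(⋀[A]^p M)) := by
  -- instances on the cone
  letI iA : ∀ n, AddCommGroup (coneX R M n) := fun n => match n with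
    | 0 => inferInstanceAs (AddCommGroup (R.K 0))
    | n + 1 => inferInstanceAs (AddCommGroup (R.K (n + 1) × ↥(⋀[A]^n M)))
  letI iM : ∀ n, Module A (coneX R M n) := fun n => match n with
    | 0 => inferInstanceAs (Module A (R.K 0))
    | n + 1 => inferInstanceAs (Module A (R.K (n + 1) × ↥(⋀[A]^n M)))
  let d : ∀ n, coneX R M (n + 1) →ₗ[A] coneX R M n := fun n => match n with
    | 0 => LinearMap.coprod (R.d 0) (L.φ 0)
    | n + 1 => LinearMap.prod (LinearMap.coprod (R.d (n + 1)) (L.φ (n + 1)))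
        (-(dL g n).comp (LinearMap.snd A _ _))
  haveI : ∀ n, Module.Flat A (coneX R M n) := fun n => by
    cases n with
    | zero => exact R.flat 0
    | succ n =>
      haveI := R.flat (n + 1)
      exact inferInstanceAs (Module.Flat A (R.K (n + 1) × ↥(⋀[A]^n M)))
  have hdd : ∀ n x, d n (d (n + 1) x) = 0 := by
    rintro (_ | n) ⟨a, b⟩
    · show R.d 0 (R.d 1 a + L.φ 1 b) + L.φ 0 (-dL g 0 b) = 0
      rw [map_add, R.dd, L.comm, map_neg, zero_add, add_neg_cancel]
    · show ((R.d (n + 1) (R.d (n + 2) a + L.φ (n + 2) b) + L.φ (n + 1) (-dL g (n + 1) b),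
        -dL g n (-dL g (n + 1) b)) : R.K (n + 1) × ↥(⋀[A]^n M)) = (0, 0)
      rw [map_add, R.dd, L.comm, map_neg, zero_add, add_neg_cancel, map_neg, dL_dL, neg_zero, neg_zero]
  have hexact : ∀ n x, d n x = 0 → ∃ y, d (n + 1) y = x := by
    rintro (_ | n) ⟨a, b⟩ h
    · change R.d 0 a + L.φ 0 b = 0 at h
      have hb : zeroEquiv A M b • q₀ = 0 := by
        have h' := congrArg R.ε h
        rw [map_add, R.ε_d, map_zero, zero_add, eq_smul_ιMulti_zero b (fun i => i.elim0), map_smul, map_smul,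
          L.base] at h'
        exact h'
      obtain ⟨m, hm⟩ := hK.ann _ hb
      let y : ↥(⋀[A]^1 M) := -ιMulti A 1 fun _ => m
      have hy : -dL g 0 y = b := by
        rw [map_neg, neg_neg, dL_ιMulti_one m (fun i => i.elim0), hm, ← eq_smul_ιMulti_zero]
      obtain ⟨c, hc⟩ := R.exact 0 (a - L.φ 1 y) (by
        rw [map_sub, L.comm, sub_eq_add_neg, ← map_neg, hy]
        exact h)
      refine ⟨(c, y), ?_⟩
      show ((R.d 1 c + L.φ 1 y, -dL g 0 y) : R.K 1 × ↥(⋀[A]^0 M)) = (a, b)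
      rw [hc, hy, sub_add_cancel]
    · have h1 : R.d (n + 1) a + L.φ (n + 1) b = 0 := congrArg Prod.fst h
      have h2 : -dL g n b = 0 := congrArg Prod.snd h
      obtain ⟨y, hy⟩ := hK.exact n b (neg_eq_zero.1 h2)
      obtain ⟨c, hc⟩ := R.exact (n + 1) (a + L.φ (n + 2) y) (by rw [map_add, L.comm, hy, h1])
      refine ⟨(c, -y), ?_⟩
      show ((R.d (n + 2) c + L.φ (n + 2) (-y), -dL g (n + 1) (-y)) : R.K (n + 2) × ↥(⋀[A]^(n + 1) M)) = (a, b)
      rw [hc, map_neg, map_neg, hy, neg_neg, add_neg_cancel_right]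
  have hsurj : Function.Surjective (d 0) := by
    intro k
    obtain ⟨a, ha⟩ := hK.span (R.ε k)
    let b : ↥(⋀[A]^0 M) := a • ιMulti A 0 fun i => i.elim0
    obtain ⟨y, hy⟩ := R.exact₀ (k - L.φ 0 b) (by rw [map_sub, map_smul, map_smul, L.base, ha, sub_self])
    exact ⟨(y, b), show R.d 0 y + L.φ 0 b = k by rw [hy, sub_add_cancel]⟩
  have main := fun n x => exact_mod J d (fun n => inferInstance) hdd hexact hsurj n x
  refine ⟨fun p z hz => ?_, fun p x hx => ?_⟩
  · cases p with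
    | zero =>
      obtain ⟨⟨a, b⟩, hab⟩ := hsurj z
      exact ⟨b, by rw [← hab]; show R.d 0 a + L.φ 0 b - L.φ 0 b ∈ _; rw [add_sub_cancel_right]; exact R.d_mem_Bb J 0 a⟩
    | succ p =>
      have hmem : d p ((z, 0) : coneX R M (p + 1)) ∈ (J • ⊤ : Submodule A (coneX R M p)) := by
        cases p with
        | zero =>
          show R.d 0 z + L.φ 0 0 ∈ _
          rw [map_zero, add_zero]
          exact hz
        | succ p =>
          show ((R.d (p + 1) z + L.φ (p + 1) 0, -dL g p 0) : R.K (p + 1) × ↥(⋀[A]^p M)) ∈ _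
          rw [map_zero, add_zero, map_zero, neg_zero]
          exact map_smul_top J (LinearMap.inl A (R.K (p + 1)) ↥(⋀[A]^p M)) hz
      obtain ⟨_, ⟨⟨a, b⟩, rfl⟩, w, hw, e⟩ := Submodule.mem_sup.1 (main p _ hmem)
      have hwfst : w.1 ∈ (J • ⊤ : Submodule A (R.K (p + 1))) := map_smul_top J (LinearMap.fst A _ _) hw
      have e1 : R.d (p + 1) a + L.φ (p + 1) b + w.1 = z := congrArg Prod.fst e
      refine ⟨b, ?_⟩
      rw [show z - L.φ (p + 1) b = R.d (p + 1) a + w.1 by rw [← e1]; abel]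
      exact add_mem (R.d_mem_Bb J _ a) (R.smul_mem_Bb J hwfst)
  · obtain ⟨_, ⟨a, rfl⟩, w, hw, e⟩ := Submodule.mem_sup.1 hx
    have hmem : d p ((-a, x) : coneX R M (p + 1)) ∈ (J • ⊤ : Submodule A (coneX R M p)) := by
      have hφ : R.d p (-a) + L.φ p x = w := by rw [map_neg, ← e]; abel
      cases p with
      | zero =>
        show R.d 0 (-a) + L.φ 0 x ∈ _
        rw [hφ]
        exact hw
      | succ p =>
        show ((R.d (p + 1) (-a) + L.φ (p + 1) x, -dL g p x) : R.K (p + 1) × ↥(⋀[A]^p M)) ∈ _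
        rw [hφ, show ((w, -dL g p x) : R.K (p + 1) × ↥(⋀[A]^p M)) =
          LinearMap.inl A (R.K (p + 1)) ↥(⋀[A]^p M) w + LinearMap.inr A (R.K (p + 1)) ↥(⋀[A]^p M) (-dL g p x) from
            Prod.ext (by simp) (by simp)]
        refine add_mem ?_ ?_
        · exact map_smul_top (N := R.K (p + 1)) J (LinearMap.inl A (R.K (p + 1)) ↥(⋀[A]^p M)) hw
        · exact map_smul_top (N := ↥(⋀[A]^p M)) (N' := R.K (p + 1) × ↥(⋀[A]^p M)) (x := -dL g p x) J
            (LinearMap.inr A (R.K (p + 1)) ↥(⋀[A]^p M)) (neg_mem (dL_mem_smul J hg p x))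
    obtain ⟨_, ⟨⟨a', b'⟩, rfl⟩, w', hw', e'⟩ := Submodule.mem_sup.1 (main p _ hmem)
    have hwsnd : w'.2 ∈ (J • ⊤ : Submodule A ↥(⋀[A]^p M)) := map_smul_top J (LinearMap.snd A _ _) hw'
    have e2 : -dL g p b' + w'.2 = x := congrArg Prod.snd e'
    rw [← e2]
    exact add_mem (neg_mem (dL_mem_smul J hg p b')) hwsnd

end Res

end Groth.Agent.H16Derived.TorSelf
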