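import Groth.Agent.H16Derived.KFlat.FlatCover
import Groth.Agent.H06Mod.StalkExact
import Groth.Prelude.Def_DerSch
import Mathlib

/-!
# Classes of cocycles in stalks of cohomology sheaves
-/

set_option autoImplicit false
set_option linter.style.haveILetI false
set_option backward.isDefEq.respectTransparency false

universe u

open CategoryTheory CategoryTheory.Limits AlgebraicGeometry Opposite TopologicalSpace
open Groth.Agent.H06Mod (stalkLin stalkLin_germ)
open Groth.Agent.H16Derived.KFlat.Stalk (gen genEquiv genEquiv_comp)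

namespace Groth.Agent.H16Derived.TorSelf

variable {X : Scheme.{u}} (x : X)

theorem stalkLin_eq {M N : X.Modules} (φ : M ⟶ N) (a : M.presheaf.stalk x) :
    (DerSch.stalkFunctor X x).map φ a = stalkLin φ x a := by
  obtain ⟨U, hU, a, rfl⟩ := M.presheaf.exists_germ_eq a
  rw [stalkLin_germ, DerSch.stalkFunctor_map_germ]

theorem stalkLin_comp_apply {M N P : X.Modules} (φ : M ⟶ N) (ψ : N ⟶ P) (a : M.presheaf.stalk x) :
    stalkLin (φ ≫ ψ) x a = stalkLin ψ x (stalkLin φ x a) := by
  obtain ⟨U, hU, a, rfl⟩ := M.presheaf.exists_germ_eq a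
  rw [stalkLin_germ, stalkLin_germ, stalkLin_germ]
  rfl

theorem stalk_exact {S : ShortComplex X.Modules} (hS : S.Exact) (a : S.X₂.presheaf.stalk x)
    (ha : stalkLin S.g x a = 0) : ∃ b, stalkLin S.f x b = a := by
  have h := hS.map (DerSch.stalkFunctor X x)
  rw [ShortComplex.moduleCat_exact_iff] at h
  obtain ⟨b, hb⟩ := h a ((stalkLin_eq x S.g a).trans ha)
  exact ⟨b, (stalkLin_eq x S.f b).symm.trans hb⟩

theorem stalk_injective {M N : X.Modules} (φ : M ⟶ N) [Mono φ] : Function.Injective (stalkLin φ x) := fun a b h =>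
  (ModuleCat.mono_iff_injective _).1 (inferInstance : Mono ((DerSch.stalkFunctor X x).map φ))
    ((stalkLin_eq x φ a).trans (h.trans (stalkLin_eq x φ b).symm))

theorem stalk_surjective {M N : X.Modules} (φ : M ⟶ N) [Epi φ] : Function.Surjective (stalkLin φ x) := fun b => by
  obtain ⟨a, ha⟩ := (ModuleCat.epi_iff_surjective _).1 (inferInstance : Epi ((DerSch.stalkFunctor X x).map φ)) b
  exact ⟨a, (stalkLin_eq x φ a).symm.trans ha⟩

variable (C : CochainComplex X.Modules ℤ) (i n j : ℤ)

/-- `t` is the class of the cocycle `a`. -/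
def ClsRep (a : (C.X n).presheaf.stalk x) (t : (C.homology n).presheaf.stalk x) : Prop :=
  ∃ c, stalkLin (C.iCycles n) x c = a ∧ stalkLin (C.homologyπ n) x c = t

variable {C i n j x}

theorem ClsRep.unique {a : (C.X n).presheaf.stalk x} {t t' : (C.homology n).presheaf.stalk x}
    (h : ClsRep x C n a t) (h' : ClsRep x C n a t') : t = t' := by
  obtain ⟨c, hc, rfl⟩ := h
  obtain ⟨c', hc', rfl⟩ := h'
  rw [stalk_injective x (C.iCycles n) (hc.trans hc'.symm)]

theorem ClsRep.add {a a' : (C.X n).presheaf.stalk x} {t t' : (C.homology n).presheaf.stalk x}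
    (h : ClsRep x C n a t) (h' : ClsRep x C n a' t') : ClsRep x C n (a + a') (t + t') := by
  obtain ⟨c, rfl, rfl⟩ := h
  obtain ⟨c', rfl, rfl⟩ := h'
  exact ⟨c + c', map_add _ _ _, map_add _ _ _⟩

theorem ClsRep.smul (r : X.presheaf.stalk x) {a : (C.X n).presheaf.stalk x} {t : (C.homology n).presheaf.stalk x}
    (h : ClsRep x C n a t) : ClsRep x C n (r • a) (r • t) := by
  obtain ⟨c, rfl, rfl⟩ := h
  exact ⟨r • c, map_smul _ _ _, map_smul _ _ _⟩

theorem clsRep_zero : ClsRep x C n 0 0 := ⟨0, map_zero _, map_zero _⟩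

/-- Cocycles have classes. -/
theorem exists_clsRep (hj : n + 1 = j) (a : (C.X n).presheaf.stalk x) (ha : stalkLin (C.d n j) x a = 0) :
    ∃ t, ClsRep x C n a t := by
  obtain ⟨c, hc⟩ := stalk_exact x (S := ShortComplex.mk (C.iCycles n) (C.d n j) (C.iCycles_d n j))
    (ShortComplex.exact_of_f_is_kernel _ (C.cyclesIsKernel n j (by simp; omega))) a ha
  exact ⟨_, c, hc, rfl⟩

/-- Every stalk element is the class of a cocycle. -/
theorem exists_rep_cls (hj : n + 1 = j) (t : (C.homology n).presheaf.stalk x) :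
    ∃ a, stalkLin (C.d n j) x a = 0 ∧ ClsRep x C n a t := by
  obtain ⟨c, hc⟩ := stalk_surjective x (C.homologyπ n) t
  refine ⟨_, ?_, c, rfl, hc⟩
  rw [← stalkLin_comp_apply, C.iCycles_d]
  obtain ⟨U, hU, c, rfl⟩ := (C.cycles n).presheaf.exists_germ_eq c
  rw [stalkLin_germ]
  exact map_zero _

/-- The class vanishes exactly for coboundaries. -/
theorem ClsRep.eq_zero_iff (hi : i + 1 = n) {a : (C.X n).presheaf.stalk x} {t : (C.homology n).presheaf.stalk x}
    (h : ClsRep x C n a t) : t = 0 ↔ ∃ b, stalkLin (C.d i n) x b = a := by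
  obtain ⟨c, rfl, rfl⟩ := h
  constructor
  · intro h0
    obtain ⟨b, rfl⟩ := stalk_exact x (S := ShortComplex.mk (C.toCycles i n) (C.homologyπ n) (C.toCycles_comp_homologyπ i n))
      (ShortComplex.exact_of_g_is_cokernel _ (C.homologyIsCokernel i n (by simp; omega))) c h0
    exact ⟨b, by rw [← stalkLin_comp_apply, C.toCycles_i]⟩
  · rintro ⟨b, hb⟩
    have e : c = stalkLin (C.toCycles i n) x b := stalk_injective x (C.iCycles n)
      (hb.symm.trans (by rw [← stalkLin_comp_apply, C.toCycles_i]))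
    rw [e, ← stalkLin_comp_apply, C.toCycles_comp_homologyπ]
    obtain ⟨U, hU, b, rfl⟩ := (C.X i).presheaf.exists_germ_eq b
    rw [stalkLin_germ]
    exact map_zero _

/-- A cocycle over an open set has a class over it. -/
theorem exists_cls_sect (hj : n + 1 = j) (W : X.Opens) (s : Γ(C.X n, W)) (hs : (C.d n j).app W s = 0) :
    ∃ σ : Γ(C.homology n, W), ∀ (y : X) (hy : y ∈ W),
      ClsRep y C n ((C.X n).presheaf.germ W y hy s) ((C.homology n).presheaf.germ W y hy σ) := by
  let g : gen W ⟶ C.X n := (genEquiv W _).symm s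
  have hg : g ≫ C.d n j = 0 := (genEquiv W _).injective (by
    rw [genEquiv_comp, Equiv.apply_symm_apply, hs]
    refine Eq.trans ?_ (congrArg (genEquiv W (C.X j)) (comp_zero (f := g))).symm.symm
    rw [comp_zero, ← comp_zero (f := g) (Z := C.X j), genEquiv_comp]
    rfl)
  let l : gen W ⟶ C.cycles n := C.liftCycles g j (by simp; omega) hg
  refine ⟨(C.homologyπ n).app W (genEquiv W _ l), fun y hy => ⟨(C.cycles n).presheaf.germ W y hy (genEquiv W _ l), ?_, ?_⟩⟩
  · rw [stalkLin_germ, ← genEquiv_comp, C.liftCycles_i, Equiv.apply_symm_apply]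
  · rw [stalkLin_germ]

end Groth.Agent.H16Derived.TorSelf
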