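import Groth.Agent.H05EGA4.KosTransfer
import Groth.Agent.H17.KoszSh.Exact
import Mathlib

/-!
# Koszul regular sequences and contraction on the exterior algebra
-/

set_option autoImplicit false
set_option linter.style.haveILetI false

universe u

open Groth.Agent.H05EGA4
open Groth.Agent.H17.KoszSh

noncomputable section

namespace Groth.Agent.H16Derived.TorSelf.KoszBridge

variable {A : Type u} [CommRing A]

/-- The inclusion of the last coordinates. -/
def incl (n : ℕ) : (Fin n → A) →ₗ[A] (Fin (n + 1) → A) where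
  toFun v := Fin.cons 0 v
  map_add' v w := funext fun i => by induction i using Fin.cases <;> simp
  map_smul' r v := funext fun i => by induction i using Fin.cases <;> simp

/-- The first basis vector. -/
def e0 (n : ℕ) : Fin (n + 1) → A := Fin.cons 1 0

/-- The first coordinate. -/
def ψ0 (n : ℕ) : (Fin (n + 1) → A) →ₗ[A] A := LinearMap.proj 0

theorem ψ0_e0 (n : ℕ) : ψ0 (A := A) n (e0 n) = 1 := rfl

theorem ψ0_incl (n : ℕ) (v : Fin n → A) : ψ0 n (incl n v) = 0 := rfl

/-- The comparison with the exterior algebra. -/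
def Ψ : ∀ n : ℕ, KosModel.T A n →ₗ[A] ExteriorAlgebra A (Fin n → A)
  | 0 => (Algebra.linearMap A _).comp (LinearMap.proj fun i => i.elim0)
  | n + 1 => (LinearMap.coprod ((LinearMap.mulLeft A (ExteriorAlgebra.ι A (e0 n))).comp
        ((ExteriorAlgebra.map (incl n)).toLinearMap.comp (Ψ n)))
      ((ExteriorAlgebra.map (incl n)).toLinearMap.comp (Ψ n))).comp (KosModel.sp n).toLinearMap

theorem Ψ_succ (n : ℕ) (h : KosModel.T A (n + 1)) :
    Ψ (n + 1) h = ExteriorAlgebra.ι A (e0 n) * ExteriorAlgebra.map (incl n) (Ψ n (KosModel.sp n h).1) +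
      ExteriorAlgebra.map (incl n) (Ψ n (KosModel.sp n h).2) := rfl

theorem contract_map_incl (n : ℕ) (φ : (Fin (n + 1) → A) →ₗ[A] A) :
    ∀ y : ExteriorAlgebra A (Fin n → A),
      contract φ (ExteriorAlgebra.map (incl n) y) = ExteriorAlgebra.map (incl n) (contract (φ.comp (incl n)) y) := by
  intro y
  induction y using CliffordAlgebra.left_induction with
  | algebraMap r => rw [AlgHom.commutes, contract_algebraMap, contract_algebraMap, map_zero]
  | add a b ha hb => simp only [map_add, ha, hb]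
  | ι_mul x m hx =>
    change contract φ (ExteriorAlgebra.map (incl n) (ExteriorAlgebra.ι A m * x)) =
      ExteriorAlgebra.map (incl n) (contract (φ.comp (incl n)) (ExteriorAlgebra.ι A m * x))
    rw [map_mul, ExteriorAlgebra.map_apply_ι, contract_ι_mul, contract_ι_mul, hx, map_sub, map_smul, map_mul,
      ExteriorAlgebra.map_apply_ι, LinearMap.comp_apply]

theorem form_comp_incl (n : ℕ) (g : Fin (n + 1) → A) :
    (Fintype.linearCombination A g).comp (incl n) = Fintype.linearCombination A (Fin.tail g) :=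
  LinearMap.ext fun v => by
    simp [incl, Fintype.linearCombination_apply, Fin.sum_univ_succ, Fin.tail]

theorem form_e0 (n : ℕ) (g : Fin (n + 1) → A) : Fintype.linearCombination A g (e0 n) = g 0 := by
  simp [e0, Fintype.linearCombination_apply, Fin.sum_univ_succ]

theorem contract_Ψ : ∀ (n : ℕ) (g : Fin n → A) (h : KosModel.T A n),
    contract (Fintype.linearCombination A g) (Ψ n h) = Ψ n (KosModel.D n g h)
  | 0, g, h => by
    show contract _ (algebraMap A _ (h _)) = Ψ 0 0
    rw [contract_algebraMap, map_zero]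
  | n + 1, g, h => by
    rw [Ψ_succ, Ψ_succ, KosModel.sp_D, map_add, contract_ι_mul, form_e0, contract_map_incl, contract_map_incl,
      form_comp_incl, contract_Ψ n, contract_Ψ n]
    simp only [map_neg, map_add, map_smul, mul_neg]
    abel

theorem contract_ψ0_map (n : ℕ) (y : ExteriorAlgebra A (Fin n → A)) :
    contract (ψ0 n) (ExteriorAlgebra.map (incl n) y) = 0 := by
  rw [contract_map_incl, show (ψ0 (A := A) n).comp (incl n) = 0 from LinearMap.ext (ψ0_incl n)]
  simp [contract]

theorem Ψ_injective : ∀ n : ℕ, Function.Injective (Ψ (A := A) n)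
  | 0 => fun h h' e => funext fun S => by
    rw [Subsingleton.elim S fun i => i.elim0]
    exact (ExteriorAlgebra.algebraMap_leftInverse (Fin 0 → A)).injective e
  | n + 1 => by
    refine (injective_iff_map_eq_zero _).2 fun h hh => ?_
    have hinj : Function.Injective (ExteriorAlgebra.map (incl (A := A) n)) := by
      refine Function.LeftInverse.injective (g := ExteriorAlgebra.map (LinearMap.funLeft A A Fin.succ)) fun y => ?_
      rw [← AlgHom.comp_apply, ExteriorAlgebra.map_comp_map,
        show (LinearMap.funLeft A A Fin.succ).comp (incl n) = LinearMap.id from LinearMap.ext fun v => funext fun i => by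
          simp [incl, LinearMap.funLeft],
        ExteriorAlgebra.map_id, AlgHom.id_apply]
    have h1 : ExteriorAlgebra.map (incl n) (Ψ n (KosModel.sp n h).1) = 0 := by
      have h2 := congrArg (contract (ψ0 n)) hh
      rwa [map_zero, Ψ_succ, map_add, contract_ι_mul, ψ0_e0, one_smul, contract_ψ0_map, contract_ψ0_map, mul_zero,
        sub_zero, add_zero] at h2
    have h2 : ExteriorAlgebra.map (incl n) (Ψ n (KosModel.sp n h).2) = 0 := by
      rwa [Ψ_succ, h1, mul_zero, zero_add] at hh
    apply (KosModel.sp n).injective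
    rw [map_zero]
    exact Prod.ext (Ψ_injective n (hinj (h1.trans (map_zero _).symm) |>.trans (map_zero _).symm))
      (Ψ_injective n (hinj (h2.trans (map_zero _).symm) |>.trans (map_zero _).symm))

theorem Ψ_mem : ∀ (n i : ℕ) (h : KosModel.T A n), h ∈ KosModel.G n i →
    Ψ n h ∈ deg (⊤ : Submodule A (Fin n → A)) i
  | 0, 0, h, _ => mem_deg_zero_iff.2 ⟨_, rfl⟩
  | 0, i + 1, h, hh => by
    rw [show h = 0 from hh, map_zero]
    exact zero_mem _
  | n + 1, 0, h, hh => by
    obtain ⟨r, hr⟩ := mem_deg_zero_iff.1 (Ψ_mem n 0 _ hh.2)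
    rw [Ψ_succ, show (KosModel.sp n h).1 = 0 from hh.1, map_zero, map_zero, mul_zero, zero_add]
    erw [← hr, AlgHom.commutes]
    exact mem_deg_zero_iff.2 ⟨r, rfl⟩
  | n + 1, i + 1, h, hh => by
    have hle : ∀ (j : ℕ) (y : ExteriorAlgebra A (Fin n → A)), y ∈ deg (⊤ : Submodule A (Fin n → A)) j →
        ExteriorAlgebra.map (incl n) y ∈ deg (⊤ : Submodule A (Fin (n + 1) → A)) j := fun j y hy => by
      induction j generalizing y with
      | zero =>
        obtain ⟨r, rfl⟩ := mem_deg_zero_iff.1 hy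
        rw [AlgHom.commutes]
        exact mem_deg_zero_iff.2 ⟨r, rfl⟩
      | succ j ih =>
        refine deg_succ_induction ?_ ?_ hy
        · intro w _ y hy
          rw [map_mul, ExteriorAlgebra.map_apply_ι]
          exact ι_mul_mem_deg (Submodule.mem_top (x := incl n w)) (ih y hy)
        · intro a b ha hb
          rw [map_add]
          exact add_mem ha hb
    rw [Ψ_succ]
    exact add_mem (ι_mul_mem_deg (Submodule.mem_top (x := e0 n)) (hle i _ (Ψ_mem n i _ hh.1)))
      (hle (i + 1) _ (Ψ_mem n (i + 1) _ hh.2))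

theorem eq_incl_add (n : ℕ) (w : Fin (n + 1) → A) : w = incl n (Fin.tail w) + w 0 • e0 n :=
  funext fun i => by induction i using Fin.cases <;> simp [incl, e0, Fin.tail]

theorem exists_Ψ_eq : ∀ (n i : ℕ) (y : ExteriorAlgebra A (Fin n → A)),
    y ∈ deg (⊤ : Submodule A (Fin n → A)) i → ∃ h ∈ KosModel.G n i, Ψ n h = y
  | 0, 0, y, hy => by
    obtain ⟨r, rfl⟩ := mem_deg_zero_iff.1 hy
    exact ⟨fun _ => r, trivial, rfl⟩
  | 0, i + 1, y, hy => by
    refine ⟨0, zero_mem _, ?_⟩
    rw [map_zero]
    refine deg_succ_induction (P := fun y => (0 : ExteriorAlgebra A (Fin 0 → A)) = y) ?_ ?_ hy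
    · intro w _ y _
      rw [Subsingleton.elim w 0, map_zero, zero_mul]
    · intro a b ha hb
      rw [← ha, ← hb, add_zero]
  | n + 1, 0, y, hy => by
    obtain ⟨r, rfl⟩ := mem_deg_zero_iff.1 hy
    obtain ⟨b, hb, hb'⟩ := exists_Ψ_eq n 0 (algebraMap A _ r) (mem_deg_zero_iff.2 ⟨r, rfl⟩)
    refine ⟨(KosModel.sp n).symm (0, b), ?_, ?_⟩
    · show KosModel.sp n ((KosModel.sp n).symm (0, b)) ∈ (⊥ : Submodule A _).prod (KosModel.G n 0)
      rw [LinearEquiv.apply_symm_apply]
      exact ⟨zero_mem _, hb⟩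
    · rw [Ψ_succ, LinearEquiv.apply_symm_apply, map_zero, map_zero, mul_zero, zero_add, hb', AlgHom.commutes]
  | n + 1, i + 1, y, hy => by
    have hW : (⊤ : Submodule A (Fin (n + 1) → A)) = LinearMap.range (incl n) ⊔ Submodule.span A {e0 n} := by
      refine (eq_top_iff.2 fun w _ => ?_).symm
      rw [eq_incl_add n w]
      exact Submodule.add_mem_sup ⟨_, rfl⟩ (Submodule.smul_mem _ _ (Submodule.mem_span_singleton_self _))
    rw [hW] at hy
    obtain ⟨a, ha, c, hc, rfl⟩ := exists_decomp _ _ hy
    have key : ∀ (j : ℕ) (z : ExteriorAlgebra A (Fin (n + 1) → A)), z ∈ deg (LinearMap.range (incl (A := A) n)) j →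
        ∃ h ∈ KosModel.G n j, ExteriorAlgebra.map (incl n) (Ψ n h) = z := by
      intro j z hz
      have hm : deg (LinearMap.range (incl (A := A) n)) j =
          (deg (⊤ : Submodule A (Fin n → A)) j).map (ExteriorAlgebra.map (incl n)).toLinearMap := by
        rw [deg, deg, Submodule.map_pow, ← Submodule.map_comp, ← Submodule.map_top, ← Submodule.map_comp]
        refine congrArg (fun l : (Fin n → A) →ₗ[A] ExteriorAlgebra A (Fin (n + 1) → A) =>
          ((⊤ : Submodule A (Fin n → A)).map l) ^ j) (LinearMap.ext fun m => (ExteriorAlgebra.map_apply_ι _ m).symm)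
      rw [hm] at hz
      obtain ⟨w, hw, rfl⟩ := hz
      obtain ⟨h, hh, rfl⟩ := exists_Ψ_eq n j w hw
      exact ⟨h, hh, rfl⟩
    obtain ⟨h1, hh1, rfl⟩ := key _ _ hc
    obtain ⟨h2, hh2, rfl⟩ := key _ _ ha
    refine ⟨(KosModel.sp n).symm (h1, h2), ?_, ?_⟩
    · show KosModel.sp n ((KosModel.sp n).symm (h1, h2)) ∈ (KosModel.G n i).prod (KosModel.G n (i + 1))
      rw [LinearEquiv.apply_symm_apply]
      exact ⟨hh1, hh2⟩
    · rw [Ψ_succ, LinearEquiv.apply_symm_apply]
      exact add_comm _ _

/-- **The contraction of a Koszul regular sequence is exact.** -/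
theorem exact_of_koszul {n : ℕ} (f : Fin n → A) (h : LCI.IsKoszulRegularSeq A (List.ofFn f)) (p : ℕ)
    (y : ExteriorAlgebra A (Fin n → A)) (hy : y ∈ deg (⊤ : Submodule A (Fin n → A)) (p + 1))
    (hd : contract (Fintype.linearCombination A f) y = 0) :
    ∃ z ∈ deg (⊤ : Submodule A (Fin n → A)) (p + 2), contract (Fintype.linearCombination A f) z = y := by
  obtain ⟨v, hv, rfl⟩ := exists_Ψ_eq n (p + 1) y hy
  rw [contract_Ψ] at hd
  obtain ⟨w, hw, hwv⟩ := KosTransfer.exact_of_ofFn f h p v hv (Ψ_injective n (hd.trans (map_zero _).symm))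
  exact ⟨Ψ n w, Ψ_mem n (p + 2) w hw, by rw [contract_Ψ, hwv]⟩

end Groth.Agent.H16Derived.TorSelf.KoszBridge
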