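import Groth.Agent.H16Derived.TorSelf.Stalk
import Groth.Agent.H16Derived.TorSelf.KoszBridge
import Groth.Agent.H17.KoszulBC
import Groth.Agent.H17.FLI.Spread
import Groth.Agent.H17.FLI.Sheaf

/-!
# The class of a tuple is locally given by sections
-/

set_option autoImplicit false
set_option linter.style.haveILetI false
set_option linter.unusedSectionVars false
set_option maxHeartbeats 1000000
set_option synthInstance.maxHeartbeats 400000
set_option backward.isDefEq.respectTransparency false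

universe u

open CategoryTheory CategoryTheory.Limits AlgebraicGeometry Opposite TopologicalSpace
open Groth.Agent.H06Mod (stalkLin stalkLin_germ pullStalk pullStalk_germ pullStalk_smul)
open Groth.Agent.H17.FLI (O' oneGerm pst pst_smul pst_oneGerm pst_injective idI stalkMap_surj
  exists_nhds_germ_zero exists_nhds_germ_eq section_ext germ_map)

namespace Groth.Agent.H16Derived.TorSelf

attribute [local instance] Groth.Agent.H06Mod.stalkAlgebra

variable {X Y : Scheme.{u}} (i : Y ⟶ X) [IsClosedImmersion i]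

/-- `i` is cut out in the local rings by a sequence whose Koszul complex is exact. -/
def LocReg : Prop :=
  ∀ y : Y, ∃ (c : ℕ) (f : Fin c → X.presheaf.stalk (i.base y)),
    (∀ (p : ℕ) (v : ExteriorAlgebra (X.presheaf.stalk (i.base y)) (Fin c → X.presheaf.stalk (i.base y))),
      v ∈ ⋀[X.presheaf.stalk (i.base y)]^(p + 1) (Fin c → X.presheaf.stalk (i.base y)) →
      H17.KoszSh.contract (Fintype.linearCombination (X.presheaf.stalk (i.base y)) f) v = 0 →
      ∃ z ∈ ⋀[X.presheaf.stalk (i.base y)]^(p + 2) (Fin c → X.presheaf.stalk (i.base y)),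
        H17.KoszSh.contract (Fintype.linearCombination (X.presheaf.stalk (i.base y)) f) z = v) ∧
      Ideal.span (Set.range f) = idI i y

theorem exact_of_weaklyRegular {A : Type u} [CommRing A] {c : ℕ} (f : Fin c → A)
    (hreg : RingTheory.Sequence.IsWeaklyRegular A (List.ofFn f)) (p : ℕ) (v : ExteriorAlgebra A (Fin c → A))
    (hv : v ∈ ⋀[A]^(p + 1) (Fin c → A)) (hd : H17.KoszSh.contract (Fintype.linearCombination A f) v = 0) :
    ∃ z ∈ ⋀[A]^(p + 2) (Fin c → A), H17.KoszSh.contract (Fintype.linearCombination A f) z = v := by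
  refine H17.KoszSh.exact_of_isWeaklyRegular (Pi.basisFun A (Fin c)) _ ?_ p v hv hd
  rwa [show (fun k => Fintype.linearCombination A f (Pi.basisFun A (Fin c) k)) = f from funext fun k => Res.form_basis f k]

theorem locReg_of_koszul_ideal (h : ∀ y : Y, ∃ (U : X.affineOpens) (rs : List Γ(X, U.1)), i.base y ∈ U.1 ∧
    LCI.IsKoszulRegularSeq Γ(X, U.1) rs ∧ i.ker.ideal U = Ideal.ofList rs) : LocReg i := by
  intro y
  obtain ⟨U, rs, hy, hreg, hker⟩ := h y
  letI := X.presheaf.algebra_section_stalk (⟨i.base y, hy⟩ : U.1)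
  haveI := U.2.isLocalization_stalk ⟨i.base y, hy⟩
  haveI : Module.Flat Γ(X, U.1) (X.presheaf.stalk (i.base y)) :=
    IsLocalization.flat _ (U.2.primeIdealOf ⟨i.base y, hy⟩).asIdeal.primeCompl
  refine ⟨rs.length, fun k => X.presheaf.germ U.1 (i.base y) hy (rs.get k), fun p v hv hd => ?_, ?_⟩
  · have h' := H17.KoszulBC.isKoszulRegularSeq_map (B := X.presheaf.stalk (i.base y)) hreg
    have h'' : LCI.IsKoszulRegularSeq (X.presheaf.stalk (i.base y))
        (List.ofFn fun k => X.presheaf.germ U.1 (i.base y) hy (rs.get k)) := by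
      rwa [show (fun k => X.presheaf.germ U.1 (i.base y) hy (rs.get k)) =
        (algebraMap Γ(X, U.1) (X.presheaf.stalk (i.base y))) ∘ rs.get from rfl, ← List.map_ofFn, List.ofFn_get]
    rw [← H22Alg.Koszul.deg_top] at hv ⊢
    exact KoszBridge.exact_of_koszul _ h'' p v hv hd
  · show _ = RingHom.ker (i.stalkMap y).hom
    rw [← H29Omega.range_idealStalk_ker i y, H29Omega.range_idealStalk i.ker (i.base y) U hy, hker,
      Ideal.map_ofList]
    refine congrArg Ideal.span (Set.ext fun a => ?_)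
    constructor
    · rintro ⟨k, rfl⟩; exact List.mem_map.2 ⟨_, List.get_mem rs k, rfl⟩
    · intro h
      obtain ⟨b, hb, rfl⟩ := List.mem_map.1 h
      obtain ⟨k, rfl⟩ := List.mem_iff_get.1 hb
      exact ⟨k, rfl⟩

theorem locReg_of_ideal (h : ∀ y : Y, ∃ (U : X.affineOpens) (rs : List Γ(X, U.1)), i.base y ∈ U.1 ∧
    RingTheory.Sequence.IsWeaklyRegular Γ(X, U.1) rs ∧ i.ker.ideal U = Ideal.ofList rs) : LocReg i := by
  intro y
  obtain ⟨U, rs, hy, hreg, hker⟩ := h y
  letI := X.presheaf.algebra_section_stalk (⟨i.base y, hy⟩ : U.1)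
  haveI := U.2.isLocalization_stalk ⟨i.base y, hy⟩
  haveI : Module.Flat Γ(X, U.1) (X.presheaf.stalk (i.base y)) :=
    IsLocalization.flat _ (U.2.primeIdealOf ⟨i.base y, hy⟩).asIdeal.primeCompl
  refine ⟨rs.length, fun k => X.presheaf.germ U.1 (i.base y) hy (rs.get k), exact_of_weaklyRegular _ ?_, ?_⟩
  · have h' := hreg.of_flat (S := X.presheaf.stalk (i.base y))
    rw [show (fun k => X.presheaf.germ U.1 (i.base y) hy (rs.get k)) =
        (algebraMap Γ(X, U.1) (X.presheaf.stalk (i.base y))) ∘ rs.get from rfl, ← List.map_ofFn, List.ofFn_get]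
    exact h'
  · show _ = RingHom.ker (i.stalkMap y).hom
    rw [← H29Omega.range_idealStalk_ker i y, H29Omega.range_idealStalk i.ker (i.base y) U hy, hker,
      Ideal.map_ofList]
    refine congrArg Ideal.span (Set.ext fun a => ?_)
    constructor
    · rintro ⟨k, rfl⟩; exact List.mem_map.2 ⟨_, List.get_mem rs k, rfl⟩
    · intro h
      obtain ⟨b, hb, rfl⟩ := List.mem_map.1 h
      obtain ⟨k, rfl⟩ := List.mem_iff_get.1 hb
      exact ⟨k, rfl⟩

variable {i} (P : Reso i)

theorem nonempty_chart (hi : LocReg i) (y : Y) : Nonempty (Chart P y) := by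
  obtain ⟨c, f, hreg, hspan⟩ := hi y
  let A := X.presheaf.stalk (i.base y)
  let g : (Fin c → A) →ₗ[A] A := Res.form f
  have hg : ∀ m, g m ∈ idI i y := Res.form_mem (idI i y) fun k => hspan ▸ Ideal.subset_span ⟨k, rfl⟩
  have hJ : ∀ a ∈ idI i y, ∃ m, g m = a := fun a ha => by
    rw [← hspan, Ideal.mem_span_range_iff_exists_fun] at ha
    obtain ⟨m, hm⟩ := ha
    exact ⟨m, by rw [← hm]; simp [g, Res.form, Fintype.linearCombination_apply]⟩
  obtain ⟨L⟩ := Res.exists_lift (P.res y) (g := g) (q₀ := oneGerm i y) fun m =>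
    H17.FLI.smul_oneGerm_of_mem i y (hg m)
  refine ⟨⟨c, g, L, ⟨fun p x hx => ?_, H17.FLI.exists_smul_oneGerm i y, fun a ha => hJ a ?_⟩, hg, hJ⟩⟩
  · obtain ⟨z, hz, hzx⟩ := hreg p x.1 x.2 (congrArg Subtype.val hx)
    exact ⟨⟨z, hz⟩, Subtype.ext hzx⟩
  · have h := congrArg (pst i y) ha
    rw [pst_smul, pst_oneGerm, mul_one, map_zero] at h
    exact h

theorem pst_one_germ (U : X.Opens) (y : Y) (h : i.base y ∈ U) :
    (O' i).presheaf.germ U (i.base y) h ((O' i).presheaf.map (homOfLE le_top).op (1 : Γ(Y, i ⁻¹ᵁ ⊤))) =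
      oneGerm i y :=
  TopCat.Presheaf.germ_res_apply _ _ _ _ _

/-- Near a point the class of a tuple is given by a section. -/
theorem exists_xi_sect (hi : LocReg i) {p : ℕ} {V : Y.Opens} (ν : Fin p → Γ(Omega.conormal i, V)) (y : Y) (hy : y ∈ V) :
    ∃ (W : Y.Opens) (_ : y ∈ W) (hWV : W ≤ V) (σ : Γ(P.T p, W)), ∀ (y' : Y) (hy' : y' ∈ W),
      IsXi P y' (fun j => (Omega.conormal i).presheaf.germ V y' (hWV hy') (ν j))
        ((P.T p).presheaf.germ W y' hy' σ) := by
  classical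
  obtain ⟨C⟩ := nonempty_chart P hi y
  choose v hv using fun j => C.vec_surjective ((Omega.conormal i).presheaf.germ V y hy (ν j))
  obtain ⟨F⟩ := Res.exists_fam (f := fun j => C.g (v j)) C.L v fun _ => rfl
  -- sections with the given germs
  choose Um hUm _ m hm using fun j => H29Omega.exists_germ_idealSect i y ⊤ trivial ⟨C.g (v j), C.hg (v j)⟩
  choose Uz hUz z hz using fun (q : Fin (p + 1)) (e : Fin q.1 → Fin p) =>
    (P.Q.X (deg q.1)).presheaf.exists_germ_eq (F.Z q.1 e)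
  obtain ⟨U, hU, hUm', hUz'⟩ : ∃ U : X.Opens, i.base y ∈ U ∧ (∀ j, U ≤ Um j) ∧ ∀ q e, U ≤ Uz q e := by
    refine ⟨⟨(⋂ j, (Um j : Set X)) ∩ ⋂ q, ⋂ e, (Uz q e : Set X),
      (isOpen_iInter_of_finite fun j => (Um j).isOpen).inter
        (isOpen_iInter_of_finite fun q => isOpen_iInter_of_finite fun e => (Uz q e).isOpen)⟩,
      ⟨Set.mem_iInter.2 hUm, Set.mem_iInter.2 fun q => Set.mem_iInter.2 (hUz q)⟩,
      fun j x hx => Set.mem_iInter.1 hx.1 j, fun q e x hx => Set.mem_iInter.1 (Set.mem_iInter.1 hx.2 q) e⟩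
  let m' : Fin p → Γ(ClSub.idealMod i.ker, U) := fun j =>
    (ClSub.idealMod i.ker).presheaf.map (homOfLE (hUm' j)).op (m j)
  let zz : ∀ q : ℕ, (Fin q → Fin p) → Γ(P.Q.X (deg q), U) := fun q e =>
    if h : q < p + 1 then (P.Q.X (deg q)).presheaf.map (homOfLE (hUz' ⟨q, h⟩ e)).op (z ⟨q, h⟩ e) else 0
  have hzz : ∀ q (_ : q < p + 1) (e : Fin q → Fin p),
      (P.Q.X (deg q)).presheaf.germ U (i.base y) hU (zz q e) = F.Z q e := fun q h e => by
    simp only [zz, dif_pos h]
    rw [germ_map]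
    exact hz ⟨q, h⟩ e
  let fs : Fin p → Γ(X, U) := fun j => OmegaSh.idealSect i.ker U (m' j)
  have hfs : ∀ j, X.presheaf.germ U (i.base y) hU (fs j) = C.g (v j) := fun j => by
    simp only [fs, m']
    erw [← H29Omega.idealStalk_germ, germ_map, H29Omega.idealStalk_germ]
    exact (hm j).symm
  -- the equations of a family
  let D : ∀ q (e : Fin (q + 1) → Fin p), Γ(P.Q.X (deg q), U) := fun q e =>
    (P.Q.d (deg (q + 1)) (deg q)).app U (zz (q + 1) e) -
      ∑ k : Fin (q + 1), ((-1) ^ (k : ℕ) * fs (e k)) • zz q (e ∘ k.succAbove)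
  have hD : ∀ q (_ : q < p) (e : Fin (q + 1) → Fin p), StrictMono e →
      (P.Q.X (deg q)).presheaf.germ U (i.base y) hU (D q e) = 0 := by
    intro q hq e he
    simp only [D]
    rw [map_sub, sub_eq_zero, ← stalkLin_germ, map_sum, hzz (q + 1) (by omega) e]
    refine (F.comm q e he).trans (Finset.sum_congr rfl fun k _ => ?_)
    rw [Mero.germ_smul, hzz q (by omega), map_mul, map_pow, map_neg, map_one, hfs]
  let one : Γ(O' i, U) := (O' i).presheaf.map (homOfLE le_top).op (1 : Γ(Y, i ⁻¹ᵁ ⊤))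
  have hbase : ∀ e : Fin 0 → Fin p, (O' i).presheaf.germ U (i.base y) hU (P.ε.app U (zz 0 e)) =
      (O' i).presheaf.germ U (i.base y) hU one := fun e => by
    rw [← stalkLin_germ, hzz 0 (by omega) e, pst_one_germ]
    exact F.base e
  have hall : ∀ q : Fin p, ∃ (U' : X.Opens), i.base y ∈ U' ∧ U' ≤ U ∧ ∀ (e : Fin (q.1 + 1) → Fin p), StrictMono e →
      ∀ (x : X) (hx : x ∈ U'), ∀ hx' : x ∈ U, (P.Q.X (deg q.1)).presheaf.germ U x hx' (D q.1 e) = 0 := by
    intro q
    obtain ⟨W, hy', hle, h⟩ := exists_nhds_germ_zero (P.Q.X (deg q.1)) hU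
      (α := ULift.{u} {e : Fin (q.1 + 1) → Fin p // StrictMono e}) (fun e => D q.1 e.down.1)
      fun e => hD q.1 q.2 e.down.1 e.down.2
    exact ⟨W, hy', hle, fun e he x hx hx' => h ⟨⟨e, he⟩⟩ x hx⟩
  choose UD hUD hUDU hD' using hall
  obtain ⟨Uε, hUε, hUεU, hε⟩ := exists_nhds_germ_zero (O' i) hU (α := ULift.{u} (Fin 0 → Fin p))
    (fun e => P.ε.app U (zz 0 e.down) - one) fun e => by rw [map_sub, sub_eq_zero]; exact hbase e.down
  let U' : X.Opens := U ⊓ Uε ⊓ ⟨⋂ q, (UD q : Set X), isOpen_iInter_of_finite fun q => (UD q).isOpen⟩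
  have hU'0 : i.base y ∈ U' := ⟨⟨hU, hUε⟩, Set.mem_iInter.2 hUD⟩
  -- the conormal classes
  have hν : ∀ j, ∃ (W : Y.Opens), y ∈ W ∧ W ≤ i ⁻¹ᵁ U ∧ ∃ hWV : W ≤ V, ∀ (y' : Y) (hy' : y' ∈ W) (hy'' : i.base y' ∈ U),
      (Omega.conormal i).presheaf.germ (i ⁻¹ᵁ U) y' hy'' (OmegaSh.conormalSect i U (m' j)) =
        (Omega.conormal i).presheaf.germ V y' (hWV hy') (ν j) := by
    intro j
    obtain ⟨W, hW, hWU, hWV, h⟩ := exists_nhds_germ_eq (Omega.conormal i) (U := i ⁻¹ᵁ U) hU hy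
      (OmegaSh.conormalSect i U (m' j)) (ν j) (by
        rw [← H29Omega.cgen_germ i y U hU (m' j) ⟨C.g (v j), C.hg _⟩ (hfs j).symm]
        exact hv j)
    exact ⟨W, hW, hWU, hWV, fun y' hy' _ => h y' hy'⟩
  choose Wν hWν _ hWνV hν' using hν
  let W : Y.Opens := V ⊓ i ⁻¹ᵁ U' ⊓ ⟨⋂ j, (Wν j : Set Y), isOpen_iInter_of_finite fun j => (Wν j).isOpen⟩
  have hWV : W ≤ V := fun _ h => h.1.1
  have hWU : W ≤ i ⁻¹ᵁ U := fun _ h => h.1.2.1.1
  -- the family at a nearby point
  have hfam : ∀ (y' : Y) (hy' : y' ∈ W), ∃ f : Fin p → idI i y',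
      (∀ j, H29Omega.cgen i y' (f j) = (Omega.conormal i).presheaf.germ V y' (hWV hy') (ν j)) ∧
      ∃ F' : (P.res y').Fam (oneGerm i y') (fun j => (f j : X.presheaf.stalk (i.base y'))),
        F'.top = (P.Q.X (deg p)).presheaf.germ U (i.base y') (hWU hy') (zz p id) := by
    intro y' hy'
    have hfmem : ∀ j, X.presheaf.germ U (i.base y') (hWU hy') (fs j) ∈ idI i y' := fun j => by
      show _ ∈ RingHom.ker (i.stalkMap y').hom
      rw [← H29Omega.range_idealStalk_ker i y']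
      exact ⟨_, H29Omega.idealStalk_germ i.ker (i.base y') U (hWU hy') (m' j)⟩
    refine ⟨fun j => ⟨_, hfmem j⟩, fun j => ?_,
      ⟨fun q e => (P.Q.X (deg q)).presheaf.germ U (i.base y') (hWU hy') (zz q e), fun q e he => ?_, fun e => ?_⟩, rfl⟩
    · rw [H29Omega.cgen_germ i y' U (hWU hy') (m' j) _ rfl]
      exact hν' j y' (Set.mem_iInter.1 hy'.2 j) _
    · have hq : q < p := by
        have := Fintype.card_le_of_injective e he.injective
        simp at this
        omega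
      have h := hD' ⟨q, hq⟩ e he (i.base y') (Set.mem_iInter.1 hy'.1.2.2 _) (hWU hy')
      simp only [D] at h
      rw [map_sub, sub_eq_zero, ← stalkLin_germ, map_sum] at h
      refine h.trans (Finset.sum_congr rfl fun k _ => ?_)
      rw [Mero.germ_smul, map_mul, map_pow, map_neg, map_one]
    · have h := hε ⟨e⟩ (i.base y') hy'.1.2.1.2
      rw [map_sub, sub_eq_zero, ← stalkLin_germ, pst_one_germ] at h
      exact h
  -- the cocycle
  let s : Γ(P.iQ.X (deg p), W) :=
    (P.iQ.X (deg p)).presheaf.map (homOfLE hWU).op (OmegaSh.pullSect i (P.Q.X (deg p)) U (zz p id))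
  have hs : ∀ (y' : Y) (hy' : y' ∈ W), (P.iQ.X (deg p)).presheaf.germ W y' hy' s =
      P.π y' p ((P.Q.X (deg p)).presheaf.germ U (i.base y') (hWU hy') (zz p id)) := fun y' hy' => by
    exact (germ_map (P.iQ.X (deg p)) hWU y' hy' _).trans (pullStalk_germ i (P.Q.X (deg p)) y' U (hWU hy') _).symm
  have hds : (P.iQ.d (deg p) (deg p + 1)).app W s = 0 := by
    refine section_ext _ _ _ fun y' hy' => ?_
    rw [map_zero, ← stalkLin_germ, hs]
    obtain ⟨f, -, F', hF'⟩ := hfam y' hy'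
    have hmem := Res.Lift.mem_Zb _ (idI i y') F'.toLift (Res.form_mem (idI i y') fun j => (f j).2) p (Res.eW id)
    rw [show F'.toLift.φ p (Res.eW id) = F'.top from F'.toMap_eW id strictMono_id, hF'] at hmem
    cases p with
    | zero =>
      rw [show deg 0 + 1 = 1 from rfl]
      exact @Subsingleton.elim _ (P.subsingleton_one y') _ _
    | succ q =>
      rw [deg_succ, P.π_d]
      exact (pullStalk_eq_zero_iff _ y' _).2 hmem
  obtain ⟨σ, hσ⟩ := exists_cls_sect (C := P.iQ) (n := deg p) (j := deg p + 1) rfl W s hds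
  refine ⟨W, ⟨⟨hy, hU'0⟩, Set.mem_iInter.2 hWν⟩, hWV, σ, fun y' hy' => ?_⟩
  obtain ⟨f, hf, F', hF'⟩ := hfam y' hy'
  refine ⟨f, hf, F', ?_⟩
  show ClsRep y' P.iQ (deg p) (P.π y' p F'.top) _
  rw [hF', ← hs y' hy']
  exact hσ y' hy'

end Groth.Agent.H16Derived.TorSelf
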