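import Groth.Agent.H16Derived.TorSelf.Main
import Groth.Agent.H16Derived.KFlat.LpullLocal
import Groth.Agent.H16Derived.KFlat.PerfRegular
import Groth.Agent.H16Derived.KFlat.PerfSummand
import Groth.Agent.H16Derived.KFlat.LocFreeOps
import Groth.Agent.H16Derived.ProperSupp.Tensor
import Groth.Agent.H16Derived.Dual.Symm
import Groth.Agent.H16Derived.PnD.Free
import Groth.Agent.H22Alg.PB.Kos
import Groth.Prelude.Def_SGA6

/-!
# The self-intersection of a regular immersion in `K`-theory
-/

set_option autoImplicit false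
set_option linter.style.haveILetI false
set_option linter.unusedSectionVars false
set_option maxHeartbeats 1000000
set_option synthInstance.maxHeartbeats 400000
set_option backward.isDefEq.respectTransparency false

universe u

open CategoryTheory CategoryTheory.Limits AlgebraicGeometry Opposite TopologicalSpace Pretriangulated
open scoped TensorProduct
open Groth.Agent.H16Derived.KFlat Groth.Agent.H16Derived.KFlat.Stalk
open Groth.Agent.H16Derived.ProjFormula (push pull adj Killed killed_push isIso_unit_of_killed)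
open Groth.Agent.H17.FLI (O')

attribute [local instance] HasDerivedCategory.standard

namespace Groth.Agent.H16Derived.TorSelf

section Class

variable {X : Scheme.{u}}

/-- The class of a bounded object with locally free cohomology is the alternating sum of the classes of its cohomology. -/
theorem clTr_eq_sum (k : ℕ) : ∀ {K : DCoh.D X} (a : ℤ), K.IsGE a → K.IsLE (a - 1 + k) →
    (∀ n, FlatMod.IsFinLocFree (DCoh.HD K n)) →
    DCoh.IsPerfect K ∧ KZero.clTr (SGA6.perfP X) K =
      ∑ j ∈ Finset.range k, (a + (j : ℤ)).negOnePow • KZero.clTr (SGA6.perfP X) (DCoh.inD X (DCoh.HD K (a + (j : ℤ)))) := by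
  induction k with
  | zero =>
    intro K a hK hK' _
    haveI := hK
    haveI := hK'
    have hz : IsZero K := by
      rw [IsZero.iff_id_eq_zero]
      exact (DerivedCategory.TStructure.t).zero (𝟙 K) (a - 1 + ((0 : ℕ) : ℤ)) a (by omega)
    exact ⟨Thomason.isPerfect_zero hz, by rw [H27KZero.Tr.cl_zero (PnD.closed_perfP X) hz]; simp⟩
  | succ k ih =>
    intro K a hK hK' h
    haveI := hK
    haveI := hK'
    obtain ⟨A, B, hA, hB, f, g, w, hT⟩ :=
      (DerivedCategory.TStructure.t).exists_triangle K (a - 1 + k) (a + k) (by omega)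
    haveI : DerivedCategory.IsLE A (a - 1 + k) := ⟨hA⟩
    haveI : DerivedCategory.IsGE B (a + k) := ⟨hB⟩
    let H := DerivedCategory.homologyFunctor X.Modules
    have hfi : ∀ i, i ≤ a - 1 + k → IsIso ((H i).map f) := fun i hi => by
      haveI : Mono ((H i).map f) :=
        (DerivedCategory.HomologySequence.mono_homologyMap_mor₁_iff _ hT (i - 1) i (by omega)).2
          ((DerivedCategory.isZero_of_isGE B (a + k) (i - 1) (by omega)).eq_of_src _ _)
      haveI : Epi ((H i).map f) :=
        (DerivedCategory.HomologySequence.epi_homologyMap_mor₁_iff _ hT i).2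
          ((DerivedCategory.isZero_of_isGE B (a + k) i (by omega)).eq_of_tgt _ _)
      exact isIso_of_mono_of_epi _
    have hgi : ∀ i, a + k ≤ i → IsIso ((H i).map g) := fun i hi => by
      have hT' := rot_of_distTriang _ hT
      haveI : Mono ((H i).map g) :=
        (DerivedCategory.HomologySequence.mono_homologyMap_mor₁_iff _ hT' (i - 1) i (by omega)).2
          (IsZero.eq_of_src ((DerivedCategory.isZero_of_isLE A (a - 1 + k) i (by omega)).of_iso
            (((H 0).shiftIso 1 (i - 1) i (by omega)).app A)) _ _)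
      haveI : Epi ((H i).map g) :=
        (DerivedCategory.HomologySequence.epi_homologyMap_mor₁_iff _ hT' i).2
          (IsZero.eq_of_tgt ((DerivedCategory.isZero_of_isLE A (a - 1 + k) (i + 1) (by omega)).of_iso
            (((H 0).shiftIso 1 i (i + 1) (by omega)).app A)) _ _)
      exact isIso_of_mono_of_epi _
    haveI : DerivedCategory.IsLE B (a + k) := (DerivedCategory.isLE_iff _ _).2 fun i hi => by
      haveI := hgi i hi.le
      exact (DerivedCategory.isZero_of_isLE K (a - 1 + (k + 1 : ℕ)) i (by omega)).of_iso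
        (asIso ((H i).map g)).symm
    haveI : DerivedCategory.IsGE A a := (DerivedCategory.isGE_iff _ _).2 fun i hi => by
      haveI := hfi i (by omega)
      exact (DerivedCategory.isZero_of_isGE K a i hi).of_iso (asIso ((H i).map f))
    obtain ⟨N, ⟨eN⟩⟩ := B.exists_iso_singleFunctor_obj_of_isGE_of_isLE (a + k)
    haveI := hgi (a + k) le_rfl
    have eH : DCoh.HD K (a + k) ≅ N :=
      asIso ((H (a + k)).map g) ≪≫ (H (a + k)).mapIso eN ≪≫ hdSingle N (a + k)
    have hN : DCoh.IsPerfect (DCoh.inD X (DCoh.HD K (a + k))) := isPerfect_inD (h (a + k))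
    let eB : (DCoh.inD X (DCoh.HD K (a + k)))⟦-(a + (k : ℤ))⟧ ≅ B :=
      (shiftFunctor _ _).mapIso ((DerivedCategory.singleFunctor X.Modules 0).mapIso eH) ≪≫
        singleShiftIso N (a + k) ≪≫ eN.symm
    have hBp : DCoh.IsPerfect B := isPerfect_of_iso eB (isPerfect_shift hN _)
    have hAh : ∀ i, FlatMod.IsFinLocFree (DCoh.HD A i) := fun i => by
      by_cases hik : i ≤ a - 1 + k
      · haveI := hfi i hik
        exact isFinLocFree_of_iso (asIso ((H i).map f)).symm (h i)
      · exact isFinLocFree_of_isZero (DerivedCategory.isZero_of_isLE A (a - 1 + k) i (by omega))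
    obtain ⟨hAp, hAc⟩ := ih a ‹_› ‹_› hAh
    have hKp : DCoh.IsPerfect K := isPerfect_obj₃ (inv_rot_of_distTriang _ hT) (isPerfect_shift hBp (-1)) hAp
    refine ⟨hKp, ?_⟩
    have htri : KZero.clTr (SGA6.perfP X) K = KZero.clTr (SGA6.perfP X) A + KZero.clTr (SGA6.perfP X) B :=
      H27KZero.Tr.triangle (P := SGA6.perfP X) hT hAp hKp hBp
    rw [htri]
    rw [Finset.sum_range_succ, hAc]
    refine congrArg₂ (· + ·) (Finset.sum_congr rfl fun j hj => ?_) ?_
    · haveI := hfi (a + (j : ℤ)) (by have := Finset.mem_range.1 hj; omega)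
      refine congrArg _ ?_
      exact H27KZero.Tr.cl_iso (PnD.closed_perfP X)
        ((DerivedCategory.singleFunctor X.Modules 0).mapIso (asIso ((H _).map f))) (isPerfect_inD (hAh _))
    · rw [← H27KZero.Tr.cl_iso (PnD.closed_perfP X) eB (isPerfect_shift hN _),
        H27KZero.Tr.cl_shift (PnD.closed_perfP X) hN, Int.negOnePow_neg]

end Class

variable {X Y : Scheme.{u}} (i : Y ⟶ X) [IsClosedImmersion i]

theorem killed_tensor_push (M : Y.Modules) (N : X.Modules) :
    Killed i ((DCoh.tensorRightMod ((push i).obj M)).obj N) := by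
  have hk := killed_push i M
  refine ⟨fun y r hr a => ?_, fun x hx => ?_⟩
  · obtain ⟨t, rfl⟩ := (stalkEquiv N ((push i).obj M) (i.base y)).surjective a
    suffices h0 : r • t = 0 from ((stalkEquiv N ((push i).obj M) (i.base y)).map_smul r t).symm.trans
      ((congrArg (stalkEquiv N ((push i).obj M) (i.base y)) h0).trans
        (map_zero (stalkEquiv N ((push i).obj M) (i.base y))))
    induction t using TensorProduct.induction_on with
    | zero => exact smul_zero _
    | add a b ha hb => rw [smul_add, ha, hb, add_zero]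
    | tmul m o =>
      rw [← TensorProduct.tmul_smul]
      erw [hk.smul_eq_zero y r hr o]
      exact TensorProduct.tmul_zero _ _
  · haveI : Subsingleton (((push i).obj M).presheaf.stalk x) := hk.subsingleton x hx
    haveI : Subsingleton (N.presheaf.stalk x ⊗[X.presheaf.stalk x] ((push i).obj M).presheaf.stalk x) := by
      refine subsingleton_of_forall_eq 0 fun t => ?_
      induction t using TensorProduct.induction_on with
      | zero => rfl
      | add a b ha hb => rw [ha, hb, add_zero]
      | tmul m o => rw [Subsingleton.elim o 0, TensorProduct.tmul_zero]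
    exact (stalkEquiv N ((push i).obj M) x).surjective.subsingleton

/-- `- ⊗ i_* M = i_*(i^* - ⊗ M)`. -/
noncomputable def tensorPushIso (M : Y.Modules) :
    DCoh.tensorRightMod ((push i).obj M) ≅ (pull i ⋙ DCoh.tensorRightMod M) ⋙ push i :=
  haveI : ∀ N, IsIso ((adj i).unit.app ((DCoh.tensorRightMod ((push i).obj M)).obj N)) := fun N =>
    isIso_unit_of_killed i (killed_tensor_push i M N)
  haveI : IsIso ((adj i).counit.app M) := ProjFormula.isIso_counit_of_isClosedImmersion i _
  (NatIso.ofComponents (F := DCoh.tensorRightMod ((push i).obj M))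
      (G := (DCoh.tensorRightMod ((push i).obj M) ⋙ pull i) ⋙ push i)
      (fun N => asIso ((adj i).unit.app ((DCoh.tensorRightMod ((push i).obj M)).obj N)))
      (fun f => (adj i).unit.naturality ((DCoh.tensorRightMod ((push i).obj M)).map f))) ≪≫
    Functor.isoWhiskerRight (Functor.isoWhiskerRight (tensorRightModIso ((push i).obj M)) (pull i) ≪≫
      pullTensorLIso i ((push i).obj M) ≪≫
        Functor.isoWhiskerLeft (pull i)
          ((DCoh.tensorBi (X := Y)).flip.mapIso (asIso ((adj i).counit.app M)) ≪≫ (tensorRightModIso M).symm)) (push i)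

theorem preservesHomology_tensor {M : Y.Modules} (hM : FlatMod.IsFlat M) :
    (DCoh.tensorRightMod M).PreservesHomology := by
  haveI : (DCoh.tensorRightMod M).Additive := inferInstance
  refine ((Functor.exact_tfae (DCoh.tensorRightMod M)).out 0 2 rfl rfl).1 fun S hS => ?_
  exact ShortComplex.shortExact_of_iso (S.mapNatIso (tensorRightModIso M).symm) (isFlatObj_of_isFlat hM S hS)

variable {i} (P : Reso i) (eP : DCoh.toD X P.Q ≅ DCoh.inD X (O' i))

include eP in
/-- The cohomology of `Li^* i_* M`. -/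
theorem nonempty_hd_lpull [DCoh.HasLpull i] {M : Y.Modules} (hM : FlatMod.IsFlat M) (n : ℤ) :
    Nonempty (DCoh.HD ((DCoh.Lpull i).obj (DCoh.inD X ((push i).obj M))) n ≅
      (DCoh.tensorRightMod M).obj (P.iQ.homology n)) := by
  haveI := ProjFormula.preservesHomology_push i
  haveI := preservesHomology_tensor hM
  haveI := hasLTensorMod (O' i)
  haveI := hasLTensorMod ((push i).obj M)
  -- resolve the module
  let K := (CochainComplex.singleFunctor X.Modules 0).obj ((push i).obj M)
  obtain ⟨R, α, hR, hf, hα⟩ := exists_flat_resolution K 0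
  haveI := hR
  haveI := isIso_Q_map α hα
  let eR : DCoh.toD X R ≅ DCoh.inD X ((push i).obj M) :=
    asIso (DerivedCategory.Q.map α) ≪≫ ((DerivedCategory.singleFunctorIsoCompQ X.Modules 0).app _).symm
  have hz : ∀ q, 0 < q → IsZero (R.X q) := fun q hq => R.isZero_of_isStrictlyLE 0 q hq
  let iR := ((pull i).mapHomologicalComplex (ComplexShape.up ℤ)).obj R
  let e1 : DCoh.HD ((DCoh.Lpull i).obj (DCoh.inD X ((push i).obj M))) n ≅ iR.homology n :=
    (DerivedCategory.homologyFunctor Y.Modules n).mapIso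
      ((DCoh.Lpull i).mapIso eR.symm ≪≫ lpullObjIso i R (kflat_of_boundedAbove R 0 hz hf)) ≪≫
      (DerivedCategory.homologyFunctorFactors Y.Modules n).app _
  let c1 : ((DCoh.tensorRightMod (O' i)).mapHomologicalComplex (ComplexShape.up ℤ)).obj R ≅
      ((push i).mapHomologicalComplex (ComplexShape.up ℤ)).obj iR :=
    (NatIso.mapHomologicalComplex (tensorO'Iso i) (ComplexShape.up ℤ)).app R ≪≫
      HomologicalComplex.Hom.isoOfComponents (fun _ => Iso.refl _)
        (fun a b _ => (Category.id_comp _).trans (Category.comp_id _).symm)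
  let e2 : DCoh.HD ((DCoh.LTensorMod (O' i)).obj (DCoh.inD X ((push i).obj M))) n ≅ (push i).obj (iR.homology n) :=
    (DerivedCategory.homologyFunctor X.Modules n).mapIso ((DCoh.LTensorMod (O' i)).mapIso eR.symm) ≪≫
      hdLTensorModIso (O' i) R (lkflat_of_boundedAbove R 0 hz hf) n ≪≫
      (HomologicalComplex.homologyFunctor _ _ n).mapIso c1 ≪≫ (iR.sc n).mapHomologyIso (push i)
  let iPM := ((DCoh.tensorRightMod M).mapHomologicalComplex (ComplexShape.up ℤ)).obj P.iQ
  let c2 : ((DCoh.tensorRightMod ((push i).obj M)).mapHomologicalComplex (ComplexShape.up ℤ)).obj P.Q ≅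
      ((push i).mapHomologicalComplex (ComplexShape.up ℤ)).obj iPM :=
    (NatIso.mapHomologicalComplex (tensorPushIso i M) (ComplexShape.up ℤ)).app P.Q ≪≫
      HomologicalComplex.Hom.isoOfComponents (fun _ => Iso.refl _)
        (fun a b _ => (Category.id_comp _).trans (Category.comp_id _).symm)
  let e3 : DCoh.HD ((DCoh.LTensorMod ((push i).obj M)).obj (DCoh.inD X (O' i))) n ≅
      (push i).obj ((DCoh.tensorRightMod M).obj (P.iQ.homology n)) :=
    (DerivedCategory.homologyFunctor X.Modules n).mapIso ((DCoh.LTensorMod ((push i).obj M)).mapIso eP.symm) ≪≫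
      hdLTensorModIso ((push i).obj M) P.Q (lkflat_of_boundedAbove P.Q 0 P.le P.flat) n ≪≫
      (HomologicalComplex.homologyFunctor _ _ n).mapIso c2 ≪≫ (iPM.sc n).mapHomologyIso (push i) ≪≫
      (push i).mapIso ((P.iQ.sc n).mapHomologyIso (DCoh.tensorRightMod M))
  obtain ⟨s1⟩ := ProperSupp.nonempty_ltensorMod_iso (DCoh.inD X ((push i).obj M)) (O' i)
  obtain ⟨s2⟩ := ProperSupp.nonempty_ltensorMod_iso (DCoh.inD X (O' i)) ((push i).obj M)
  let e4 : (push i).obj (iR.homology n) ≅ (push i).obj ((DCoh.tensorRightMod M).obj (P.iQ.homology n)) :=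
    e2.symm ≪≫ (DerivedCategory.homologyFunctor X.Modules n).mapIso (s1 ≪≫ Dual.σ _ _ ≪≫ s2.symm) ≪≫ e3
  haveI : ∀ G, IsIso ((adj i).counit.app G) := fun G => ProjFormula.isIso_counit_of_isClosedImmersion i G
  exact ⟨e1 ≪≫ (asIso ((adj i).counit.app _)).symm ≪≫ (pull i).mapIso e4 ≪≫ asIso ((adj i).counit.app _)⟩

/-- **`i^* i_* [M] = Σ (-1)^p [M ⊗ ⋀^p N]`.** -/
theorem selfInt (hi : LocReg i) (c : ℕ) (hN : FlatMod.IsFinLocFreeOfRank c (Omega.conormal i))
    (L : ℕ → Y.Modules) (hL : ∀ p : ℕ, p ≤ c → ExtPow.IsExtPow p (Omega.conormal i) (L p))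
    [(Scheme.Modules.pushforward i).Additive] [PreservesFiniteLimits (Scheme.Modules.pushforward i)]
    [PreservesFiniteColimits (Scheme.Modules.pushforward i)]
    (hpush : ∀ K : DCoh.D Y, DCoh.IsPerfect K → DCoh.IsPerfect ((Scheme.Modules.pushforward i).mapDerivedCategory.obj K))
    [DCoh.HasLpull i] [(DCoh.Lpull i).CommShift ℤ] [(DCoh.Lpull i).IsTriangulated]
    (hpull : ∀ K : DCoh.D X, DCoh.IsPerfect K → DCoh.IsPerfect ((DCoh.Lpull i).obj K))
    (M : Y.Modules) (hM : FlatMod.IsFinLocFree M) :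
    SGA6.mapTr (DCoh.Lpull i) (SGA6.perfP X) (SGA6.perfP Y) hpull
      (SGA6.mapTr ((Scheme.Modules.pushforward i).mapDerivedCategory) (SGA6.perfP Y) (SGA6.perfP X) hpush (KZero.clTr (SGA6.perfP Y) (DCoh.inD Y M))) =
    ∑ p ∈ Finset.range (c + 1), (-1 : ℤ) ^ p • KZero.clTr (SGA6.perfP Y) (DCoh.inD Y (((DCoh.tensorBi (X := Y)).obj M).obj (L p))) := by
  have hMp : DCoh.IsPerfect (DCoh.inD Y M) := isPerfect_inD hM
  have hN' := H22Alg.KPullLam.finLocFree_of_rank hN
  let em : (Scheme.Modules.pushforward i).mapDerivedCategory.obj (DCoh.inD Y M) ≅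
      DCoh.inD X ((Scheme.Modules.pushforward i).obj M) :=
    ((Scheme.Modules.pushforward i).mapDerivedCategorySingleFunctor 0).app M
  rw [PnD.mapTr_clTr _ hpush hMp, H27KZero.Tr.cl_iso (PnD.closed_perfP X) em (hpush _ hMp),
    PnD.mapTr_clTr _ hpull (isPerfect_of_iso em (hpush _ hMp))]
  obtain ⟨P, ⟨eP⟩⟩ := exists_reso i
  let K := (DCoh.Lpull i).obj (DCoh.inD X ((Scheme.Modules.pushforward i).obj M))
  have hK : ∀ n, Nonempty (DCoh.HD K n ≅ (DCoh.tensorRightMod M).obj (P.iQ.homology n)) := fun n =>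
    nonempty_hd_lpull P eP (isFlat_of_isFinLocFree hM) n
  -- the Tor sheaves
  have hT : ∀ p, p ≤ c → Nonempty (P.T p ≅ L p) := fun p hp => by
    obtain ⟨e⟩ := nonempty_iso (P := P) (hi := hi) (hL p hp)
    exact ⟨e.symm⟩
  have hT0 : ∀ p, c < p → IsZero (P.T p) := fun p hp => by
    have hE := H22Alg.ExtPowSheaf.isExtPow_sheaf (i := p) (H8Props.FinLocFree.isQCoh_of_isFinLocFree _ hN')
    obtain ⟨e⟩ := nonempty_iso (P := P) (hi := hi) hE
    exact (H22Alg.PB.isZero_extPow_of_gt hN hE hp).of_iso e.symm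
  have hvan : ∀ n : ℤ, (n < -(c : ℤ) ∨ 0 < n) → IsZero (DCoh.HD K n) := fun n hn => by
    obtain ⟨e⟩ := hK n
    refine IsZero.of_iso ((DCoh.tensorRightMod M).map_isZero ?_) e
    rcases hn with hn | hn
    · obtain ⟨p, rfl⟩ : ∃ p : ℕ, n = deg p := ⟨(-n).toNat, by simp only [deg]; omega⟩
      exact hT0 p (by simp only [deg] at hn; omega)
    · exact HomologicalComplex.ExactAt.isZero_homology
        ((HomologicalComplex.exactAt_iff _ _).2 (ShortComplex.exact_of_isZero_X₂ _
          ((Scheme.Modules.pullback i).map_isZero (P.le n hn))))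
  have hfree : ∀ n, FlatMod.IsFinLocFree (DCoh.HD K n) := fun n => by
    by_cases hn : n < -(c : ℤ) ∨ 0 < n
    · exact isFinLocFree_of_isZero (hvan n hn)
    · obtain ⟨p, rfl⟩ : ∃ p : ℕ, n = deg p := ⟨(-n).toNat, by simp only [deg]; omega⟩
      obtain ⟨e⟩ := hK (deg p)
      obtain ⟨e'⟩ := hT p (by simp only [deg] at hn; omega)
      exact isFinLocFree_of_iso (((DCoh.tensorRightMod M).mapIso e'.symm ≪≫ e.symm))
        (isFinLocFree_of_iso ((tensorRightModIso M).app (L p)).symm
          (isFinLocFree_tensor (H22Alg.ExtPowHom.finLocFree_of_isExtPow hN' (hL p (by simp only [deg] at hn; omega))) hM))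
  haveI : K.IsGE (-(c : ℤ)) := (DerivedCategory.isGE_iff _ _).2 fun n hn => hvan n (Or.inl hn)
  haveI : K.IsLE 0 := (DerivedCategory.isLE_iff _ _).2 fun n hn => hvan n (Or.inr hn)
  obtain ⟨-, hcl⟩ := clTr_eq_sum (c + 1) (K := K) (-(c : ℤ)) inferInstance
    (by
      have : -(c : ℤ) - 1 + ((c + 1 : ℕ) : ℤ) = 0 := by omega
      rw [this]
      infer_instance) hfree
  rw [hcl, ← Finset.sum_range_reflect _ (c + 1)]
  refine Finset.sum_congr rfl fun p hp => ?_
  have hp' : p ≤ c := by have := Finset.mem_range.1 hp; omega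
  rw [show -(c : ℤ) + ((c + 1 - 1 - p : ℕ) : ℤ) = deg p by simp only [deg]; omega]
  obtain ⟨e⟩ := hK (deg p)
  obtain ⟨e'⟩ := hT p hp'
  rw [H27KZero.Tr.cl_iso (PnD.closed_perfP Y) ((DerivedCategory.singleFunctor Y.Modules 0).mapIso
    (e ≪≫ (DCoh.tensorRightMod M).mapIso e' ≪≫ (tensorRightModIso M).app (L p) ≪≫
      (((Dual.braidM (X := Y)).app M).app (L p)).symm)) (isPerfect_inD (hfree _))]
  rw [Int.negOnePow_neg]
  simp [Int.negOnePow_def, Units.smul_def]

end Groth.Agent.H16Derived.TorSelf
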