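import Groth.Agent.H16Derived.TorSelf.Fam
import Groth.Agent.H16Derived.TorSelf.Cls
import Groth.Agent.H16Derived.KFlat.FlatCriterion
import Groth.Agent.H17.FLI.Stalk
import Groth.Agent.H17.Conormal.Left
import Groth.Agent.H06Mod.StalkPullback

/-!
# A flat resolution of the structure sheaf of a closed subscheme, read in stalks
-/

set_option autoImplicit false
set_option linter.style.haveILetI false
set_option linter.unusedSectionVars false
set_option maxHeartbeats 800000
set_option backward.isDefEq.respectTransparency false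

universe u

open CategoryTheory CategoryTheory.Limits AlgebraicGeometry Opposite TopologicalSpace
open Groth.Agent.H06Mod (stalkLin stalkLin_germ pullStalk pullStalk_germ pullStalk_smul pullStalk_naturality pullStalkEquiv)
open Groth.Agent.H17.FLI (O' oneGerm pst pst_smul pst_oneGerm pst_injective idI stalkMap_surj smul_oneGerm_of_mem exists_smul_oneGerm)

namespace Groth.Agent.H16Derived.TorSelf

attribute [local instance] Groth.Agent.H06Mod.stalkAlgebra

/-- The degree of the `p`-th term. -/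
abbrev deg (p : ℕ) : ℤ := -(p : ℤ)

theorem deg_succ (p : ℕ) : deg (p + 1) + 1 = deg p := by simp only [deg]; omega

variable {X Y : Scheme.{u}} (i : Y ⟶ X) [IsClosedImmersion i]

/-- A flat resolution of `i_* O_Y`. -/
structure Reso where
  Q : CochainComplex X.Modules ℤ
  le : ∀ n : ℤ, 0 < n → IsZero (Q.X n)
  flat : ∀ n, FlatMod.IsFlat (Q.X n)
  exact : ∀ p : ℕ, (Q.sc' (deg (p + 2)) (deg (p + 1)) (deg p)).Exact
  ε : Q.X (deg 0) ⟶ O' i
  w : Q.d (deg 1) (deg 0) ≫ ε = 0
  exact₀ : (ShortComplex.mk _ _ w).Exact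
  epi : Epi ε

variable {i} (P : Reso i)

/-- The restriction of the resolution. -/
noncomputable abbrev Reso.iQ : CochainComplex Y.Modules ℤ :=
  ((Scheme.Modules.pullback i).mapHomologicalComplex (ComplexShape.up ℤ)).obj P.Q

/-- The Tor sheaves. -/
noncomputable abbrev Reso.T (p : ℕ) : Y.Modules := P.iQ.homology (deg p)

/-- The resolution at a point. -/
noncomputable def Reso.res (y : Y) :
    Res (X.presheaf.stalk (i.base y)) ((O' i).presheaf.stalk (i.base y)) where
  K p := ModuleCat.of _ ((P.Q.X (deg p)).presheaf.stalk (i.base y))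
  d p := stalkLin (P.Q.d (deg (p + 1)) (deg p)) (i.base y)
  dd p a := by
    rw [← stalkLin_comp_apply, P.Q.d_comp_d]
    obtain ⟨U, hU, a, rfl⟩ := (P.Q.X (deg (p + 1 + 1))).presheaf.exists_germ_eq a
    rw [stalkLin_germ]
    exact map_zero _
  exact p a ha := stalk_exact (i.base y) (P.exact p) a ha
  ε := stalkLin P.ε (i.base y)
  ε_d a := by
    rw [← stalkLin_comp_apply, P.w]
    obtain ⟨U, hU, a, rfl⟩ := (P.Q.X (deg (0 + 1))).presheaf.exists_germ_eq a
    rw [stalkLin_germ]
    exact map_zero _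
  exact₀ a ha := stalk_exact (i.base y) P.exact₀ a ha
  ε_surj := by
    haveI := P.epi
    exact stalk_surjective (i.base y) P.ε
  flat p := P.flat (deg p) (i.base y)

variable (y : Y)

/-- The restriction map on stalks. -/
noncomputable abbrev Reso.π (p : ℕ) : (P.res y).K p →+ (P.iQ.X (deg p)).presheaf.stalk y :=
  (pullStalk i (P.Q.X (deg p)) y).hom

theorem pullStalk_surjective (M : X.Modules) (x : Y) : Function.Surjective (pullStalk i M x) := by
  intro b
  obtain ⟨t, rfl⟩ := (pullStalkEquiv i M x).surjective b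
  induction t using TensorProduct.induction_on with
  | zero => exact ⟨0, by rw [map_zero, map_zero]⟩
  | add a b ha hb =>
    obtain ⟨a', ha'⟩ := ha
    obtain ⟨b', hb'⟩ := hb
    exact ⟨a' + b', by rw [map_add, map_add, ha', hb']⟩
  | tmul b m =>
    obtain ⟨a, rfl⟩ := stalkMap_surj i x b
    exact ⟨a • m, (pullStalk_smul i M x a m).trans (H06Mod.pullStalkLin_tmul i M x _ m).symm⟩

theorem pullStalk_eq_zero_iff (M : X.Modules) (x : Y) (m : M.presheaf.stalk (i.base x)) :
    pullStalk i M x m = 0 ↔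
      m ∈ idI i x • (⊤ : Submodule (X.presheaf.stalk (i.base x)) (M.presheaf.stalk (i.base x))) := by
  constructor
  · intro hm
    let A := X.presheaf.stalk (i.base x)
    let B := Y.presheaf.stalk x
    let N := M.presheaf.stalk (i.base x)
    let Q := N ⧸ (idI i x • (⊤ : Submodule A N))
    let g := Function.surjInv (stalkMap_surj i x)
    have hg : ∀ b, (i.stalkMap x).hom (g b) = b := Function.surjInv_eq (stalkMap_surj i x)
    have key : ∀ r s : A, (i.stalkMap x).hom r = (i.stalkMap x).hom s → ∀ n : Q, r • n = s • n := by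
      intro r s hrs n
      obtain ⟨n, rfl⟩ := Submodule.Quotient.mk_surjective _ n
      rw [← Submodule.Quotient.mk_smul, ← Submodule.Quotient.mk_smul, Submodule.Quotient.eq, ← sub_smul]
      exact Submodule.smul_mem_smul (by rw [RingHom.mem_ker, map_sub, hrs, sub_self]) trivial
    let back : TensorProduct A B N →ₗ[A] Q := TensorProduct.lift
      { toFun := fun b =>
          { toFun := fun n => g b • (Submodule.Quotient.mk n : Q)
            map_add' := fun _ _ => by rw [Submodule.Quotient.mk_add, smul_add]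
            map_smul' := fun s n => by rw [Submodule.Quotient.mk_smul, RingHom.id_apply, smul_comm] }
        map_add' := fun b c => LinearMap.ext fun n => by
          show g (b + c) • (Submodule.Quotient.mk n : Q) = g b • Submodule.Quotient.mk n + g c • Submodule.Quotient.mk n
          rw [← add_smul]
          exact key _ _ (by rw [map_add, hg, hg, hg]) _
        map_smul' := fun s b => LinearMap.ext fun n => by
          show g (s • b) • (Submodule.Quotient.mk n : Q) = s • g b • Submodule.Quotient.mk n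
          rw [smul_smul]
          exact key _ _ (by rw [map_mul, hg, hg, Algebra.smul_def]; rfl) _ }
    have h1 : (pullStalkEquiv i M x) ((1 : B) ⊗ₜ[A] m) = 0 :=
      ((H06Mod.pullStalkLin_tmul i M x 1 m).trans (one_smul _ _)).trans hm
    have h2 : back ((1 : B) ⊗ₜ[A] m) = Submodule.Quotient.mk m :=
      (show g 1 • (Submodule.Quotient.mk m : Q) = Submodule.Quotient.mk m from
        (key _ 1 (by rw [hg, map_one]) _).trans (one_smul A _))
    rw [(LinearEquiv.map_eq_zero_iff _).1 h1, map_zero] at h2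
    exact (Submodule.Quotient.mk_eq_zero _).1 h2.symm
  · intro hm
    refine Submodule.smul_induction_on hm (fun a ha n _ => ?_) fun a b ha hb => by rw [map_add, ha, hb, add_zero]
    rw [pullStalk_smul, RingHom.mem_ker.1 ha, zero_smul]

theorem Reso.π_d (p : ℕ) (a : (P.res y).K (p + 1)) :
    stalkLin (P.iQ.d (deg (p + 1)) (deg p)) y (P.π y (p + 1) a) = P.π y p ((P.res y).d p a) := by
  show stalkLin ((Scheme.Modules.pullback i).map (P.Q.d (deg (p + 1)) (deg p))) y
      (pullStalk i (P.Q.X (deg (p + 1))) y a) =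
    pullStalk i (P.Q.X (deg p)) y (stalkLin (P.Q.d (deg (p + 1)) (deg p)) (i.base y) a)
  exact (pullStalk_naturality i _ y (P.Q.d (deg (p + 1)) (deg p)) a)

theorem Reso.subsingleton_one : Subsingleton ((P.iQ.X 1).presheaf.stalk y) := by
  haveI : Subsingleton ((P.Q.X 1).presheaf.stalk (i.base y)) :=
    ModuleCat.subsingleton_of_isZero (Functor.map_isZero (DerSch.stalkFunctor X (i.base y)) (P.le 1 one_pos))
  exact (pullStalk_surjective (i := i) (P.Q.X 1) y).subsingleton

/-- The class of a cycle modulo the ideal. -/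
def Reso.Cl (p : ℕ) (z : (P.res y).K p) (t : (P.T p).presheaf.stalk y) : Prop :=
  ClsRep y P.iQ (deg p) (P.π y p z) t

variable {P y}

theorem Reso.Cl.unique {p : ℕ} {z : (P.res y).K p} {t t' : (P.T p).presheaf.stalk y}
    (h : P.Cl y p z t) (h' : P.Cl y p z t') : t = t' := ClsRep.unique (n := deg p) h h'

theorem Reso.Cl.add {p : ℕ} {z z' : (P.res y).K p} {t t' : (P.T p).presheaf.stalk y}
    (h : P.Cl y p z t) (h' : P.Cl y p z' t') : P.Cl y p (z + z') (t + t') := by
  unfold Reso.Cl
  rw [map_add]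
  exact ClsRep.add (n := deg p) h h'

theorem Reso.Cl.smul {p : ℕ} {z : (P.res y).K p} {t : (P.T p).presheaf.stalk y}
    (h : P.Cl y p z t) (r : X.presheaf.stalk (i.base y)) : P.Cl y p (r • z) ((i.stalkMap y).hom r • t) := by
  unfold Reso.Cl
  rw [show P.π y p (r • z) = (i.stalkMap y).hom r • P.π y p z from pullStalk_smul i _ y r z]
  exact ClsRep.smul (n := deg p) _ h

theorem Reso.exists_cl {p : ℕ} {z : (P.res y).K p} (hz : z ∈ (P.res y).Zb (idI i y) p) : ∃ t, P.Cl y p z t := by
  cases p with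
  | zero =>
    haveI := P.subsingleton_one y
    exact exists_clsRep (n := deg 0) (j := 1) (by simp [deg]) _ (Subsingleton.elim _ _)
  | succ p =>
    refine exists_clsRep (n := deg (p + 1)) (j := deg p) (deg_succ p) _ ?_
    rw [P.π_d]
    exact (pullStalk_eq_zero_iff _ y _).2 hz

theorem Reso.exists_rep {p : ℕ} (t : (P.T p).presheaf.stalk y) :
    ∃ z ∈ (P.res y).Zb (idI i y) p, P.Cl y p z t := by
  cases p with
  | zero =>
    obtain ⟨a, -, ha⟩ := exists_rep_cls (C := P.iQ) (n := deg 0) (j := 1) (by simp [deg]) t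
    obtain ⟨z, rfl⟩ := pullStalk_surjective (i := i) (P.Q.X (deg 0)) y a
    exact ⟨z, trivial, ha⟩
  | succ p =>
    obtain ⟨a, hd, ha⟩ := exists_rep_cls (C := P.iQ) (n := deg (p + 1)) (j := deg p) (deg_succ p) t
    obtain ⟨z, rfl⟩ := pullStalk_surjective (i := i) (P.Q.X (deg (p + 1))) y a
    refine ⟨z, (pullStalk_eq_zero_iff _ y _).1 ?_, ha⟩
    exact (P.π_d y p z).symm.trans hd

theorem Reso.Cl.eq_zero_iff {p : ℕ} {z : (P.res y).K p} {t : (P.T p).presheaf.stalk y}
    (h : P.Cl y p z t) : t = 0 ↔ z ∈ (P.res y).Bb (idI i y) p := by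
  refine (ClsRep.eq_zero_iff (i := deg (p + 1)) (n := deg p) (deg_succ p) h).trans ⟨?_, ?_⟩
  · rintro ⟨b, hb⟩
    obtain ⟨w, rfl⟩ := pullStalk_surjective (i := i) (P.Q.X (deg (p + 1))) y b
    refine Submodule.mem_sup.2 ⟨_, ⟨w, rfl⟩, z - (P.res y).d p w, ?_, add_sub_cancel _ _⟩
    refine (pullStalk_eq_zero_iff _ y _).1 ?_
    show P.π y p (z - (P.res y).d p w) = 0
    rw [map_sub, ← P.π_d, sub_eq_zero]
    exact hb.symm
  · intro hz
    obtain ⟨_, ⟨w, rfl⟩, j, hj, rfl⟩ := Submodule.mem_sup.1 hz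
    refine ⟨P.π y (p + 1) w, ?_⟩
    rw [P.π_d, map_add, show P.π y p j = 0 from (pullStalk_eq_zero_iff _ y _).2 hj, add_zero]

theorem Reso.Cl.congr {p : ℕ} {z z' : (P.res y).K p} {t : (P.T p).presheaf.stalk y}
    (h : P.Cl y p z t) (hz : z' - z ∈ (P.res y).Bb (idI i y) p) (hz' : ∃ t', P.Cl y p z' t') : P.Cl y p z' t := by
  obtain ⟨t', h'⟩ := hz'
  have h1 : P.Cl y p (z' + (-1 : X.presheaf.stalk (i.base y)) • z) (t' + (i.stalkMap y).hom (-1) • t) :=
    h'.add (h.smul (-1))
  rw [neg_one_smul, ← sub_eq_add_neg, map_neg, map_one, neg_one_smul, ← sub_eq_add_neg] at h1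
  rwa [← sub_eq_zero.1 (h1.eq_zero_iff.2 hz)]

variable (P y)

/-- A Koszul chart of the resolution at `y`. -/
structure Chart where
  c : ℕ
  g : (Fin c → X.presheaf.stalk (i.base y)) →ₗ[X.presheaf.stalk (i.base y)] X.presheaf.stalk (i.base y)
  L : (P.res y).Lift g (oneGerm i y)
  hK : Res.KExact g (oneGerm i y)
  hg : ∀ m, g m ∈ idI i y
  hJ : ∀ a ∈ idI i y, ∃ m, g m = a

/-- The class attached to a tuple of conormal elements. -/
def IsXi {p : ℕ} (n : Fin p → (Omega.conormal i).presheaf.stalk y) (t : (P.T p).presheaf.stalk y) : Prop :=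
  ∃ f : Fin p → idI i y, (∀ j, H29Omega.cgen i y (f j) = n j) ∧
    ∃ F : (P.res y).Fam (oneGerm i y) (fun j => (f j : X.presheaf.stalk (i.base y))), P.Cl y p F.top t

variable {P y}

theorem Chart.lift_mem_Zb (C : Chart P y) (p : ℕ) (x : ↥(⋀[X.presheaf.stalk (i.base y)]^p (Fin C.c → X.presheaf.stalk (i.base y)))) :
    C.L.φ p x ∈ (P.res y).Zb (idI i y) p :=
  Res.Lift.mem_Zb _ _ C.L C.hg p x

/-- The class of the wedge of a tuple in a chart. -/
noncomputable def Chart.cl (C : Chart P y) (p : ℕ)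
    (x : ↥(⋀[X.presheaf.stalk (i.base y)]^p (Fin C.c → X.presheaf.stalk (i.base y)))) : (P.T p).presheaf.stalk y :=
  (P.exists_cl (C.lift_mem_Zb p x)).choose

theorem Chart.cl_spec (C : Chart P y) (p : ℕ)
    (x : ↥(⋀[X.presheaf.stalk (i.base y)]^p (Fin C.c → X.presheaf.stalk (i.base y)))) :
    P.Cl y p (C.L.φ p x) (C.cl p x) :=
  (P.exists_cl (C.lift_mem_Zb p x)).choose_spec

theorem Chart.cl_add (C : Chart P y) (p : ℕ) (x x') : C.cl p (x + x') = C.cl p x + C.cl p x' := by
  refine (C.cl_spec p _).unique ?_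
  rw [map_add]
  exact (C.cl_spec p x).add (C.cl_spec p x')

theorem Chart.cl_smul (C : Chart P y) (p : ℕ) (r : X.presheaf.stalk (i.base y)) (x) :
    C.cl p (r • x) = (i.stalkMap y).hom r • C.cl p x := by
  refine (C.cl_spec p _).unique ?_
  rw [map_smul]
  exact (C.cl_spec p x).smul r

theorem Chart.cl_surjective (C : Chart P y) (p : ℕ) : Function.Surjective (C.cl p) := by
  intro t
  obtain ⟨z, hz, ht⟩ := P.exists_rep t
  obtain ⟨x, hx⟩ := (C.L.bijective (idI i y) C.hK C.hg).1 p z hz
  exact ⟨x, ((ht.congr (by rw [← neg_sub]; exact neg_mem hx) ⟨_, C.cl_spec p x⟩).unique (C.cl_spec p x)).symm⟩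

theorem Chart.cl_eq_zero_iff (C : Chart P y) (p : ℕ) (x) :
    C.cl p x = 0 ↔ x ∈ (idI i y • ⊤ : Submodule (X.presheaf.stalk (i.base y))
      ↥(⋀[X.presheaf.stalk (i.base y)]^p (Fin C.c → X.presheaf.stalk (i.base y)))) := by
  rw [(C.cl_spec p x).eq_zero_iff]
  refine ⟨(C.L.bijective (idI i y) C.hK C.hg).2 p x, fun h => Submodule.mem_sup_right ?_⟩
  exact Res.map_smul_top _ (C.L.φ p) h

/-- The conormal class of a vector in a chart. -/
noncomputable def Chart.vec (C : Chart P y) (v : Fin C.c → X.presheaf.stalk (i.base y)) :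
    (Omega.conormal i).presheaf.stalk y :=
  H29Omega.cgen i y ⟨C.g v, C.hg v⟩

theorem Chart.vec_surjective (C : Chart P y) : Function.Surjective C.vec := by
  intro n
  obtain ⟨a, rfl⟩ := H17.Conormal.exists_cgen_eq i y n
  obtain ⟨m, hm⟩ := C.hJ a.1 a.2
  exact ⟨m, congrArg (H29Omega.cgen i y) (Subtype.ext hm)⟩

theorem Chart.vec_eq_iff (C : Chart P y) (v v' : Fin C.c → X.presheaf.stalk (i.base y)) :
    C.vec v = C.vec v' → v - v' ∈ (idI i y • ⊤ : Submodule (X.presheaf.stalk (i.base y)) (Fin C.c → X.presheaf.stalk (i.base y))) := by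
  intro h
  refine Res.sub_mem_smul (idI i y) C.hK C.hg C.hJ ?_
  rw [← sq]
  refine H17.Conormal.mem_sq_of_cgen_eq_zero i y ⟨C.g (v - v'), C.hg _⟩ ?_
  rw [show (⟨C.g (v - v'), C.hg _⟩ : RingHom.ker (i.stalkMap y).hom) = ⟨C.g v, C.hg v⟩ - ⟨C.g v', C.hg v'⟩ from
    Subtype.ext (map_sub C.g v v'), map_sub, sub_eq_zero]
  exact h

/-- In a chart the class of a tuple is the class of the wedge. -/
theorem Chart.isXi_iff (C : Chart P y) {p : ℕ} {n : Fin p → (Omega.conormal i).presheaf.stalk y}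
    (v : Fin p → Fin C.c → X.presheaf.stalk (i.base y)) (hv : ∀ j, C.vec (v j) = n j) (t : (P.T p).presheaf.stalk y) :
    IsXi P y n t ↔ t = C.cl p (exteriorPower.ιMulti _ p v) := by
  constructor
  · rintro ⟨f, hf, F, hF⟩
    choose w hw using fun j => C.hJ (f j).1 (f j).2
    have h1 := F.top_sub_mem (idI i y) C.L (fun j => (f j).2) w hw
    have h2 : P.Cl y p (C.L.φ p (exteriorPower.ιMulti _ p w)) t :=
      hF.congr (by rw [← neg_sub]; exact neg_mem h1) ⟨_, C.cl_spec p _⟩
    rw [h2.unique (C.cl_spec p _)]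
    -- compare the two tuples modulo the ideal
    have hwv : ∀ j, w j - v j ∈ (idI i y • ⊤ : Submodule (X.presheaf.stalk (i.base y)) (Fin C.c → X.presheaf.stalk (i.base y))) := fun j =>
      C.vec_eq_iff _ _ ((congrArg (H29Omega.cgen i y) (Subtype.ext (hw j))).trans ((hf j).trans (hv j).symm))
    rw [← sub_eq_zero]
    have hsub : ∀ x x', C.cl p (x - x') = C.cl p x - C.cl p x' := fun x x' => by
      rw [eq_sub_iff_add_eq, ← C.cl_add, sub_add_cancel]
    rw [← hsub, C.cl_eq_zero_iff, ← Submodule.Quotient.mk_eq_zero, Submodule.Quotient.mk_sub, sub_eq_zero]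
    exact Res.congr_of_sub_mem (idI i y) (exteriorPower.ιMulti _ p) w v hwv
  · rintro rfl
    obtain ⟨F⟩ := Res.exists_fam (f := fun j => C.g (v j)) C.L v fun _ => rfl
    refine ⟨fun j => ⟨C.g (v j), C.hg _⟩, hv, F, ?_⟩
    refine (C.cl_spec p _).congr (F.top_sub_mem (idI i y) C.L (fun j => C.hg _) v fun _ => rfl) ?_
    refine P.exists_cl ?_
    have h := Res.Lift.mem_Zb _ (idI i y) F.toLift (Res.form_mem (idI i y) fun j => C.hg _) p (Res.eW id)
    rwa [show F.toLift.φ p (Res.eW id) = F.top from F.toMap_eW id strictMono_id] at h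

theorem Chart.existsUnique_xi (C : Chart P y) {p : ℕ} (n : Fin p → (Omega.conormal i).presheaf.stalk y) :
    ∃! t, IsXi P y n t := by
  choose v hv using fun j => C.vec_surjective (n j)
  exact ⟨_, (C.isXi_iff v hv _).2 rfl, fun t ht => (C.isXi_iff v hv t).1 ht⟩

end Groth.Agent.H16Derived.TorSelf
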